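import Groth.Prelude.Def_AlgSpD
import Groth.Agent.H10Coh.ModGroth
import Mathlib.CategoryTheory.Limits.Types.Yoneda

/-!
# Modules on the small etale site form a Grothendieck abelian category
-/

set_option backward.isDefEq.respectTransparency false

universe u v

open CategoryTheory CategoryTheory.Limits AlgebraicGeometry Opposite
open AlgSp

namespace Groth.Agent.H13EtMod

variable {S : Scheme.{u}} (X : Sp S)

theorem preservesColimitsOfShape_toSheaf_modEt (K : Type v) [SmallCategory K]
    [HasColimitsOfShape K AddCommGrpCat.{u + 1}] :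
    PreservesColimitsOfShape K (SheafOfModules.toSheaf.{u + 1} (OEtRing X)) := by
  refine ⟨fun {D} => ?_⟩
  let R := OEtRing X
  let L := PresheafOfModules.sheafification.{u + 1} (R := R) (𝟙 R.obj)
  let adj := PresheafOfModules.sheafificationAdjunction.{u + 1} (R := R) (𝟙 R.obj)
  let P := D ⋙ SheafOfModules.forget.{u + 1} R ⋙ PresheafOfModules.restrictScalars (𝟙 R.obj)
  have hL : PreservesColimit P L := adj.leftAdjoint_preservesColimits.preservesColimitsOfShape.preservesColimit
  have hS : PreservesColimit P (L ⋙ SheafOfModules.toSheaf.{u + 1} R) := by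
    have : PreservesColimit P (PresheafOfModules.toPresheaf R.obj ⋙ presheafToSheaf (etTop X) AddCommGrpCat.{u + 1}) :=
      inferInstance
    exact preservesColimit_of_natIso _ (PresheafOfModules.sheafificationCompToSheaf (R := R) (𝟙 R.obj)).symm
  have : PreservesColimit (P ⋙ L) (SheafOfModules.toSheaf.{u + 1} R) :=
    preservesColimit_of_preserves_colimit_cocone (isColimitOfPreserves L (colimit.isColimit P))
      (isColimitOfPreserves (L ⋙ SheafOfModules.toSheaf.{u + 1} R) (colimit.isColimit P))
  exact preservesColimit_of_iso_diagram _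
    (Functor.isoWhiskerLeft D (asIso adj.counit) ≪≫ D.rightUnitor : P ⋙ L ≅ D)

theorem isSeparating_freeUliftYoneda :
    ObjectProperty.IsSeparating (.ofObj fun E : EtOver X =>
      (PresheafOfModules.free (OEtRing X).obj).obj (uliftYoneda.{u + 1}.obj E)) := by
  intro M N f g h
  ext ⟨E⟩ m
  let e := fun P : PresheafOfModules.{u + 1} (OEtRing X).obj =>
    (PresheafOfModules.freeHomEquiv (F := uliftYoneda.{u + 1}.obj E) (G := P)).trans uliftYonedaEquiv
  obtain ⟨a, ha⟩ := (e M).surjective m
  subst ha
  exact congrArg (e N) (h _ (ObjectProperty.ofObj_apply _ E) a)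

theorem isGrothendieckAbelian_modEt : IsGrothendieckAbelian.{u + 1} (ModEt X) := by
  have hsep : HasSeparator (ModEt X) := by
    have h := H10Coh.isSeparating_image
      (PresheafOfModules.sheafificationAdjunction.{u + 1} (R := OEtRing X) (𝟙 (OEtRing X).obj))
      (isSeparating_freeUliftYoneda X)
    exact ⟨_, h.isSeparator_coproduct⟩
  refine { hasSeparator := hsep, ab5OfSize := ⟨fun K _ _ => ?_⟩ }
  have := preservesColimitsOfShape_toSheaf_modEt X K
  have : PreservesFiniteLimits (SheafOfModules.toSheaf.{u + 1} (OEtRing X)) := inferInstance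
  have : ReflectsFiniteLimits (SheafOfModules.toSheaf.{u + 1} (OEtRing X)) :=
    ⟨fun _ _ _ => reflectsLimitsOfShape_of_reflectsIsomorphisms⟩
  exact HasExactColimitsOfShape.domain_of_functor K (SheafOfModules.toSheaf.{u + 1} (OEtRing X))

end Groth.Agent.H13EtMod
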