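import Groth.Agent.H13EtMod.FiniteSec
import Groth.Agent.H12AlgSp.BCMod.SubSheaf
import Groth.Agent.H12AlgSp.BCMod.Coherator
import Groth.Agent.H12AlgSp.RelDimApps
import Groth.Agent.H12AlgSp.Points
import Groth.Agent.H12AlgSp.QC
import Mathlib.RingTheory.Finiteness.Subalgebra
import Mathlib.RingTheory.Noetherian.Basic

/-!
# Modules of finite type and coherent modules on the small etale site
-/

set_option backward.isDefEq.respectTransparency false

universe u

open CategoryTheory CategoryTheory.Limits AlgebraicGeometry Opposite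
open AlgSp Groth.Agent.H12AlgSp Groth.Agent.H12AlgSp.BCMod

namespace Groth.Agent.H13EtMod

variable {S : Scheme.{u}} {X : Sp S}

/-- The functions on an object of the small etale site. -/
noncomputable abbrev OSec (E : EtOver X) : CommRingCat.{u + 1} := (OEt X).obj.obj (op E)

theorem isFiniteType_iff {M : ModEt X} (hM : M.IsQuasicoherent) :
    M.IsFiniteType ↔
      ∀ E : EtOver X, IsAffine E.obj.left.left → Module.Finite (OSec E) ((pm M).obj (op E)) :=
  ⟨fun _ _ hE => finite_of_isFiniteType (Rsh := OEt X) (A := etAff X)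
      ((isQuasicoherent_iff_isBCEt M).1 hM) hE,
    fun h => isFiniteType_of_finite (Rsh := OEt X) (A := etAff X) ((isQuasicoherent_iff_isBCEt M).1 hM) h⟩

theorem isFinitePresentation_iff {M : ModEt X} (hM : M.IsQuasicoherent) :
    M.IsFinitePresentation ↔
      ∀ E : EtOver X, IsAffine E.obj.left.left → Module.FinitePresentation (OSec E) ((pm M).obj (op E)) :=
  ⟨fun _ _ hE => finitePresentation_of_isFinitePresentation (Rsh := OEt X) (A := etAff X)
      ((isQuasicoherent_iff_isBCEt M).1 hM) hE,
    fun h => isFinitePresentation_of_finitePresentation (Rsh := OEt X) (A := etAff X)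
      ((isQuasicoherent_iff_isBCEt M).1 hM) h⟩

theorem isNoetherianRing_OSec (hX : IsAlgSpace X) (hN : IsLocNoethSp X) (E : EtOver X)
    [IsAffine E.obj.left.left] : IsNoetherianRing (OSec E) := by
  have := isLocallyNoetherian_chart hX hN E.property
  have : IsNoetherianRing Γ(E.obj.left.left, ⊤) :=
    IsLocallyNoetherian.component_noetherian ⟨⊤, isAffineOpen_top _⟩
  exact isNoetherianRing_of_ringEquiv _
    (ULift.ringEquiv.symm : Γ(E.obj.left.left, ⊤) ≃+* ULift.{u + 1} Γ(E.obj.left.left, ⊤))

theorem isFinitePresentation_of_finite (hX : IsAlgSpace X) (hN : IsLocNoethSp X) {M : ModEt X}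
    (hM : M.IsQuasicoherent)
    (h : ∀ E : EtOver X, IsAffine E.obj.left.left → Module.Finite (OSec E) ((pm M).obj (op E))) :
    M.IsFinitePresentation :=
  (isFinitePresentation_iff hM).2 fun E hE =>
    have := isNoetherianRing_OSec hX hN E
    have := h E hE
    Module.finitePresentation_of_finite _ _

theorem finite_sec (M : ModEt X) [M.IsFinitePresentation] (E : EtOver X) [hE : IsAffine E.obj.left.left] :
    Module.Finite (OSec E) ((pm M).obj (op E)) :=
  have := (isFinitePresentation_iff (M := M) inferInstance).1 ‹_› E hE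
  inferInstance

theorem isBCEt_of_fp (M : ModEt X) [M.IsFinitePresentation] : IsBCEt M :=
  (isQuasicoherent_iff_isBCEt M).1 inferInstance

/-- The map on sections. -/
noncomputable abbrev appE {M N : ModEt X} (f : M ⟶ N) (E : EtOver X) :
    (pm M).obj (op E) →ₗ[OSec E] (pm N).obj (op E) := appL (Rsh := OEt X) f E

theorem isFinitePresentation_of_mono (hX : IsAlgSpace X) (hN : IsLocNoethSp X) {M N : ModEt X}
    [M.IsFinitePresentation] (ι : N ⟶ M) [Mono ι] (hq : N.IsQuasicoherent) : N.IsFinitePresentation :=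
  isFinitePresentation_of_finite hX hN hq fun E hE =>
    have := isNoetherianRing_OSec hX hN E
    have := finite_sec M E
    Module.Finite.of_injective (appE ι E) (mono_app_injective (Rsh := OEt X) ι (op E))

theorem isFinitePresentation_of_epi (hX : IsAlgSpace X) (hN : IsLocNoethSp X) {M Q : ModEt X}
    [M.IsFinitePresentation] (p : M ⟶ Q) [Epi p] (hq : Q.IsQuasicoherent) : Q.IsFinitePresentation :=
  isFinitePresentation_of_finite hX hN hq fun E hE =>
    have := finite_sec M E
    Module.Finite.of_surjective (appE p E)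
      (surjective_of_epi (Rsh := OEt X) (A := etAff X) p (isBCEt_of_fp M) ((isQuasicoherent_iff_isBCEt Q).1 hq) hE)

theorem isFinitePresentation_kernel (hX : IsAlgSpace X) (hN : IsLocNoethSp X) {M N : ModEt X}
    [M.IsFinitePresentation] [N.IsFinitePresentation] (φ : M ⟶ N) : (kernel φ).IsFinitePresentation :=
  isFinitePresentation_of_mono hX hN (kernel.ι φ) (((qcoh_closure X).2.1 M N φ inferInstance inferInstance).1)

theorem isFinitePresentation_cokernel (hX : IsAlgSpace X) (hN : IsLocNoethSp X) {M N : ModEt X}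
    [M.IsFinitePresentation] [N.IsFinitePresentation] (φ : M ⟶ N) : (cokernel φ).IsFinitePresentation :=
  isFinitePresentation_of_epi hX hN (cokernel.π φ) (((qcoh_closure X).2.1 M N φ inferInstance inferInstance).2)

theorem isFinitePresentation_extension (hX : IsAlgSpace X) (hN : IsLocNoethSp X) (T : ShortComplex (ModEt X))
    (hT : T.ShortExact) [T.X₁.IsFinitePresentation] [T.X₃.IsFinitePresentation] :
    T.X₂.IsFinitePresentation :=
  isFinitePresentation_of_finite hX hN (((qcoh_closure X).2.2 T hT).2.1 inferInstance inferInstance) fun E hE =>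
    have := isNoetherianRing_OSec hX hN E
    have := finite_sec T.X₁ E
    have := finite_sec T.X₃ E
    have h := exact_shortExact (Rsh := OEt X) hT E
    have : Module.Finite (OSec E) ((pm T.X₂).obj (op E) ⧸ LinearMap.range (appE T.f E)) := by
      rw [show LinearMap.range (appE T.f E) = LinearMap.ker (appE T.g E) from (LinearMap.exact_iff.1 h.2).symm]
      exact Module.Finite.equiv (LinearMap.quotKerEquivOfSurjective (appE T.g E)
        (surjective_app (Rsh := OEt X) (A := etAff X) hT (isBCEt_of_fp T.X₁) hE)).symm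
    Module.Finite.of_submodule_quotient (LinearMap.range (appE T.f E))

theorem range_map_eq_range_ofPt {U : Over S} (a : (yon S).obj U ⟶ X) :
    Set.range (Points.map a) = Set.range (Points.ofPt a) := by
  ext z
  constructor
  · rintro ⟨p, rfl⟩
    obtain ⟨u, rfl⟩ := (Points.schemeEquiv U).surjective p
    exact ⟨u, Points.ofPt_eq_map_ofScheme a u⟩
  · rintro ⟨u, rfl⟩
    exact ⟨Points.ofScheme U u, (Points.ofPt_eq_map_ofScheme a u).symm⟩

/-- Objects over two given ones, affine, through a point of the first lying over the image of the second. -/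
theorem exists_affine_over {E E₀ : EtOver X} (x : E.obj.left.left)
    (hx : Points.ofPt E.obj.hom x ∈ Set.range (Points.ofPt E₀.obj.hom)) :
    ∃ (V : EtOver X) (g : V ⟶ E) (_ : V ⟶ E₀) (v : V.obj.left.left),
      IsAffine V.obj.left.left ∧ g.hom.left.left v = x := by
  obtain ⟨W, h, g', sq⟩ := E₀.property.1 E.obj.hom
  have : Etale h.left := E₀.property.2 E.obj.hom g' h sq
  have hr := preimage_ofPt_range sq
  rw [range_map_eq_range_ofPt] at hr
  obtain ⟨w, hw⟩ := hr.le hx
  let W' : EtOver X := EtOver.mk ((yon S).map h ≫ E.obj.hom)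
    ((repWith_isMultiplicative (S := S) @Etale).comp_mem _ _
      ((repWith_yon_map_iff _ _).2 (show Etale h.left from inferInstance)) E.property)
  obtain ⟨g, hg⟩ := (yon S).map_surjective g'
  subst hg
  let a : W' ⟶ E := EtOver.homMk h rfl
  let b : W' ⟶ E₀ := EtOver.homMk g sq.w
  obtain ⟨_, ⟨V, hV, rfl⟩, hwV, -⟩ :=
    W.left.isBasis_affineOpens.exists_subset_of_mem_open (Set.mem_univ w) isOpen_univ
  exact ⟨etOpen W' V, etOpenι W' V ≫ a, etOpenι W' V ≫ b, (⟨w, hwV⟩ : V), hV, hw⟩

theorem subsingleton_of_hom {Q : ModEt X} (hQ : IsBCEt Q) {V E₀ : EtOver X} (g : V ⟶ E₀)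
    [IsAffine V.obj.left.left] [IsAffine E₀.obj.left.left] (h : Subsingleton ((pm Q).obj (op E₀)))
    (s : (pm Q).obj (op V)) : s = 0 := by
  obtain ⟨t, ht⟩ := (hQ g ‹IsAffine V.obj.left.left› ‹IsAffine E₀.obj.left.left›).2 (toSec (pm Q) g s)
  have : Subsingleton (Sec (pm Q) (𝟙 E₀)) := h
  rw [Subsingleton.elim t 0, map_zero] at ht
  exact ht.symm

/-- A quasi-coherent module vanishing on an affine chart vanishes over the image of that chart. -/
theorem eq_zero_of_chart {Q : ModEt X} (hQ : IsBCEt Q) (E₀ : EtOver X) [IsAffine E₀.obj.left.left]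
    (h : Subsingleton ((pm Q).obj (op E₀))) (E : EtOver X)
    (hE : Set.range (Points.ofPt E.obj.hom) ⊆ Set.range (Points.ofPt E₀.obj.hom))
    (s : (pm Q).obj (op E)) : s = 0 := by
  let R : Sieve E :=
    { arrows := fun V g => ((pm Q).map g.op).hom s = 0
      downward_closed := fun {V W g} hg k => by
        rw [← map_comp_sec g k s, hg]
        exact map_zero _ }
  have hR : R ∈ etTop X E := mem_etTop_of_forall_point _ fun x => by
    obtain ⟨V, g, g₀, v, hV, hv⟩ := exists_affine_over x (hE ⟨x, rfl⟩)
    exact ⟨V, g, v, subsingleton_of_hom hQ g₀ h _, hv⟩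
  exact sheaf_ext (Rc := (OEt X).obj) (P := pm Q) Q.isSheaf hR s 0 fun V g hg => hg.trans (map_zero _).symm

/-- A morphism of quasi-coherent modules bijective on a surjective affine chart is an isomorphism. -/
theorem isIso_of_chart {M N : ModEt X} (f : M ⟶ N) [Mono f] (hM : IsBCEt M) (hN : IsBCEt N) (E₀ : EtOver X)
    [IsAffine E₀.obj.left.left] (hs : Set.range (Points.ofPt E₀.obj.hom) = Set.univ)
    (h : Function.Surjective (appE f E₀)) : IsIso f := by
  have hQ : IsBCEt (cokernel f) := IsBCMod.cokernel f hM hN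
  have hsurj := surjective_of_epi (Rsh := OEt X) (A := etAff X) (cokernel.π f) hN hQ (E := E₀)
    ‹IsAffine E₀.obj.left.left›
  have h0 : Subsingleton ((pm (cokernel f)).obj (op E₀)) := subsingleton_of_forall_eq 0 fun q => by
    obtain ⟨y, rfl⟩ := hsurj q
    obtain ⟨x, rfl⟩ := h y
    exact congrArg (fun φ => (appE φ E₀) x) (cokernel.condition f)
  have : Epi f := Preadditive.epi_of_isZero_cokernel' _ (cokernelIsCokernel f) <| by
    rw [IsZero.iff_id_eq_zero]
    exact hom_ext_affine fun E _ z =>
      (eq_zero_of_chart hQ E₀ h0 E (by rw [hs]; exact Set.subset_univ _) _).trans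
        (eq_zero_of_chart hQ E₀ h0 E (by rw [hs]; exact Set.subset_univ _) _).symm
  exact isIso_of_mono_of_epi f

theorem chain_stabilizes (hX : IsAlgSpace X) (hqc : IsQuasiCompactSp X) (hN : IsLocNoethSp X)
    (M : ModEt X) [M.IsFinitePresentation] (N : ℕ →o Subobject M)
    (hq : ∀ n, (Subobject.underlying.obj (N n)).IsQuasicoherent) :
    ∃ n, ∀ m, n ≤ m → N m = N n := by
  have := (isQuasiCompactSp_iff hX).1 hqc
  obtain ⟨W, a, hW, ha, hr⟩ := exists_affine_chart hX isOpen_univ isCompact_univ
  let E₀ : EtOver X := EtOver.mk a ha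
  have : IsAffine E₀.obj.left.left := hW
  have := isNoetherianRing_OSec hX hN E₀
  have := finite_sec M E₀
  let f : ℕ →o Submodule (OSec E₀) ((pm M).obj (op E₀)) :=
    ⟨fun n => LinearMap.range (appE (N n).arrow E₀), fun m n hmn => by
      rintro _ ⟨x, rfl⟩
      exact ⟨appE (Subobject.ofLE _ _ (N.monotone hmn)) E₀ x,
        congrArg (fun φ => (appE φ E₀) x) (Subobject.ofLE_arrow (N.monotone hmn))⟩⟩
  obtain ⟨n, hn⟩ := monotone_stabilizes_iff_noetherian.2
    (inferInstance : IsNoetherian (OSec E₀) ((pm M).obj (op E₀))) f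
  refine ⟨n, fun m hm => ?_⟩
  let ι := Subobject.ofLE _ _ (N.monotone hm)
  have hsurj : Function.Surjective (appE ι E₀) := fun y => by
    obtain ⟨x, hx⟩ := (hn m hm).ge ⟨y, rfl⟩
    refine ⟨x, mono_app_injective (Rsh := OEt X) (N m).arrow (op E₀) ?_⟩
    exact (congrArg (fun φ => (appE φ E₀) x) (Subobject.ofLE_arrow (N.monotone hm))).trans hx
  have : IsIso ι := isIso_of_chart ι ((isQuasicoherent_iff_isBCEt _).1 (hq n))
    ((isQuasicoherent_iff_isBCEt _).1 (hq m)) E₀ hr hsurj
  exact le_antisymm (Subobject.le_of_comm (inv ι) (by rw [IsIso.inv_comp_eq, Subobject.ofLE_arrow]))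
    (N.monotone hm)

end Groth.Agent.H13EtMod
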