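import Groth.Agent.H12AlgSp.BCMod.QCoh
import Mathlib.Algebra.Module.FinitePresentation
import Mathlib.RingTheory.Finiteness.Descent

/-!
# Finite type and finite presentation through sections over affine objects

On a site with affine objects, a module commuting with base change is of finite type (resp. of finite presentation)
iff its sections over every affine object form a finite (resp. finitely presented) module.
-/

set_option backward.isDefEq.respectTransparency false

universe w v₁ u₁

open CategoryTheory CategoryTheory.Limits Opposite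
open scoped TensorProduct
open Groth.Agent.H12AlgSp.BCMod

namespace Groth.Agent.H13EtMod

section Algebra

variable {R : Type w} [CommRing R] {κ : Type*} (B : κ → Type w) [∀ i, CommRing (B i)] [∀ i, Algebra R (B i)]
  [∀ i, Module.Flat R (B i)] [Finite κ]
  (hsur : ∀ p : PrimeSpectrum R, ∃ i, ∃ q : PrimeSpectrum (B i), PrimeSpectrum.comap (algebraMap R (B i)) q = p)

omit [∀ i, Module.Flat R (B i)] [Finite κ] in
theorem exists_finset_tmul {M : Type w} [AddCommGroup M] [Module R M] (i : κ) (t : B i ⊗[R] M) :
    ∃ s : Finset M, t ∈ LinearMap.range ((Submodule.span R (s : Set M)).subtype.lTensor (B i)) := by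
  classical
  induction t with
  | zero => exact ⟨∅, zero_mem _⟩
  | tmul b m =>
    exact ⟨{m}, ⟨b ⊗ₜ ⟨m, Submodule.subset_span (by simp)⟩, by simp⟩⟩
  | add a b ha hb =>
    obtain ⟨s, x, rfl⟩ := ha
    obtain ⟨s', y, rfl⟩ := hb
    have h₁ : Submodule.span R (s : Set M) ≤ Submodule.span R ((s ∪ s' : Finset M) : Set M) :=
      Submodule.span_mono (by simp)
    have h₂ : Submodule.span R (s' : Set M) ≤ Submodule.span R ((s ∪ s' : Finset M) : Set M) :=
      Submodule.span_mono (by simp)
    refine ⟨s ∪ s', (Submodule.inclusion h₁).lTensor _ x + (Submodule.inclusion h₂).lTensor _ y, ?_⟩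
    rw [map_add, ← LinearMap.lTensor_comp_apply, ← LinearMap.lTensor_comp_apply,
      Submodule.subtype_comp_inclusion, Submodule.subtype_comp_inclusion]

include hsur in
/-- Finiteness descends along a finite faithfully flat family. -/
theorem finite_of_family {M : Type w} [AddCommGroup M] [Module R M] (h : ∀ i, Module.Finite (B i) (B i ⊗[R] M)) :
    Module.Finite R M := by
  classical
  have := Fintype.ofFinite κ
  choose g hg using fun i => (h i).fg_top
  choose s hs using fun (i : κ) (t : g i) => exists_finset_tmul B i t.1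
  let S : Finset M := Finset.univ.biUnion fun i => (g i).attach.biUnion (s i)
  let N : Submodule R M := Submodule.span R (S : Set M)
  suffices hq : ∀ q : M ⧸ N, q = 0 by
    exact ⟨⟨S, eq_top_iff.2 fun m _ => (Submodule.Quotient.mk_eq_zero N).1 (hq (Submodule.Quotient.mk m))⟩⟩
  refine subsingleton_of_forall_tensor B hsur fun i x => ?_
  obtain ⟨x, rfl⟩ := LinearMap.lTensor_surjective (B i) N.mkQ_surjective x
  have hx : x ∈ Submodule.span (B i) (g i : Set (B i ⊗[R] M)) := by rw [hg i]; trivial
  induction hx using Submodule.span_induction with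
  | mem x hx =>
    obtain ⟨y, hy⟩ := hs i ⟨x, hx⟩
    have hle : Submodule.span R (s i ⟨x, hx⟩ : Set M) ≤ N := Submodule.span_mono fun m hm => by
      simp only [S, Finset.coe_biUnion, Set.mem_iUnion]
      exact ⟨i, Finset.mem_univ _, ⟨x, hx⟩, Finset.mem_attach _ _, hm⟩
    rw [show x = _ from hy.symm, ← LinearMap.lTensor_comp_apply,
      show N.mkQ ∘ₗ (Submodule.span R (s i ⟨x, hx⟩ : Set M)).subtype = 0 from
        LinearMap.ext fun m => (Submodule.Quotient.mk_eq_zero N).2 (hle m.2),
      LinearMap.lTensor_zero, LinearMap.zero_apply]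
  | zero => exact map_zero _
  | add a b _ _ ha hb => rw [map_add, ha, hb, add_zero]
  | smul b a _ ha =>
    have : N.mkQ.lTensor (B i) (b • a) = b • N.mkQ.lTensor (B i) a := (N.mkQ.baseChange (B i)).map_smul b a
    rw [this, ha, smul_zero]

include hsur in
/-- Finite presentation descends along a finite faithfully flat family. -/
theorem finitePresentation_of_family {M : Type w} [AddCommGroup M] [Module R M]
    (h : ∀ i, Module.FinitePresentation (B i) (B i ⊗[R] M)) : Module.FinitePresentation R M := by
  have := finite_of_family B hsur (M := M) fun i => (have := h i; inferInstance)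
  obtain ⟨n, f, hf⟩ := Module.Finite.exists_fin' R M
  refine Module.finitePresentation_of_surjective f hf ?_
  refine Module.Finite.iff_fg.1 (finite_of_family B hsur fun i => ?_)
  have hs : Function.Surjective (f.baseChange (B i)) := LinearMap.lTensor_surjective (B i) hf
  have hfg : (LinearMap.ker (f.baseChange (B i))).FG :=
    (h i).fg_ker _ hs
  have := Module.Finite.iff_fg.2 hfg
  let ι : B i ⊗[R] LinearMap.ker f →ₗ[B i] B i ⊗[R] (Fin n → R) := (LinearMap.ker f).subtype.baseChange (B i)
  have hι : Function.Injective ι :=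
    Module.Flat.lTensor_preserves_injective_linearMap (M := B i) _ Subtype.val_injective
  have hr : LinearMap.range ι = LinearMap.ker (f.baseChange (B i)) :=
    SetLike.ext fun x => ((Module.Flat.lTensor_exact (B i) f.exact_subtype_ker_map) x).symm
  exact Module.Finite.equiv ((LinearEquiv.ofInjective ι hι).trans (LinearEquiv.ofEq _ _ hr)).symm

end Algebra

section Sections

variable {C : Type u₁} [Category.{v₁} C] {J : GrothendieckTopology C} {Rc : Cᵒᵖ ⥤ CommRingCat.{w}}

/-- Sections over `E` are sections over the identity of `E`. -/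
noncomputable def idEquiv (P : PM Rc) (E : C) : P.obj (op E) ≃ₗ[Rc.obj (op E)] Sec P (𝟙 E) where
  toFun x := toSec P (𝟙 E) x
  invFun x := ofSec P x
  left_inv _ := rfl
  right_inv _ := rfl
  map_add' _ _ := rfl
  map_smul' a x := by
    change a • x = (Rc.map (𝟙 E).op).hom a • x
    rw [op_id, CategoryTheory.Functor.map_id]
    rfl

/-- The base change isomorphism is linear over the bigger ring. -/
noncomputable def extEquiv {P : PM Rc} {Z E : C} {g : Z ⟶ E} (h : IsBC P g) :
    RingOf Rc g ⊗[Rc.obj (op E)] Sec P (𝟙 E) ≃ₗ[RingOf Rc g] Sec P g :=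
  LinearEquiv.ofBijective
    { toFun := ext P g
      map_add' := map_add _
      map_smul' := fun b t => by
        induction t with
        | zero => rw [smul_zero, map_zero, smul_zero]
        | add x y hx hy => rw [smul_add, map_add, map_add, hx, hy, smul_add]
        | tmul c x =>
          rw [TensorProduct.smul_tmul', ext_tmul, ext_tmul, smul_eq_mul, mul_smul]
          rfl } h

variable {A : AffSite J Rc}

/-- Finiteness of sections is local on the site. -/
theorem finite_of_affCov {P : PM Rc} (hP : AllBC A P) {E : C} (U : AffCov A E)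
    (h : ∀ i, Module.Finite (Rc.obj (op (U.Z i))) (P.obj (op (U.Z i)))) :
    Module.Finite (Rc.obj (op E)) (P.obj (op E)) := by
  have hflat := U.flat_z
  have : Module.Finite (Rc.obj (op E)) (Sec P (𝟙 E)) := by
    refine finite_of_family (fun i => RingOf Rc (U.z i)) U.hsurj fun i => ?_
    have : Module.Finite (RingOf Rc (U.z i)) (Sec P (U.z i)) := h i
    exact Module.Finite.equiv (extEquiv (hP (U.z i) (U.affZ i) U.affE)).symm
  exact Module.Finite.equiv (idEquiv P E).symm

/-- Finite presentation of sections is local on the site. -/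
theorem finitePresentation_of_affCov {P : PM Rc} (hP : AllBC A P) {E : C} (U : AffCov A E)
    (h : ∀ i, Module.FinitePresentation (Rc.obj (op (U.Z i))) (P.obj (op (U.Z i)))) :
    Module.FinitePresentation (Rc.obj (op E)) (P.obj (op E)) := by
  have hflat := U.flat_z
  have : Module.FinitePresentation (Rc.obj (op E)) (Sec P (𝟙 E)) := by
    refine finitePresentation_of_family (fun i => RingOf Rc (U.z i)) U.hsurj fun i => ?_
    have : Module.FinitePresentation (RingOf Rc (U.z i)) (Sec P (U.z i)) := h i
    exact Module.FinitePresentation.of_equiv (extEquiv (hP (U.z i) (U.affZ i) U.affE)).symm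
  exact Module.FinitePresentation.of_equiv (idEquiv P E).symm

end Sections

section Sheaves

variable {C : Type u₁} [Category.{v₁} C] {J : GrothendieckTopology C}
  {Rsh : Sheaf J CommRingCat.{w}} [J.HasSheafCompose (forget₂ CommRingCat.{w} RingCat.{w})]
  {A : AffSite J Rsh.obj}

/-- The map on sections over an object. -/
noncomputable def appL {M N : SheafOfModules.{w} (ringS Rsh)} (f : M ⟶ N) (E : C) :
    (toPM M).obj (op E) →ₗ[Rsh.obj.obj (op E)] (toPM N).obj (op E) :=
  (f.val.app (op E)).hom

variable [HasSheafify J AddCommGrpCat.{w}] [J.WEqualsLocallyBijective AddCommGrpCat.{w}]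

theorem exact_kernel_app {M N : SheafOfModules.{w} (ringS Rsh)} (f : M ⟶ N) (E : C) :
    Function.Exact (appL (kernel.ι f) E) (appL f E) := by
  let G := SheafOfModules.forget (ringS Rsh) ⋙ PresheafOfModules.evaluation _ (op E)
  exact (ShortComplex.ShortExact.moduleCat_exact_iff_function_exact _).1
    (ShortComplex.exact_of_f_is_kernel ((ShortComplex.mk _ _ (kernel.condition f)).map G)
      (KernelFork.mapIsLimit _ (kernelIsKernel f) G))

/-- Short exact sequences with base changing kernel are exact on affine sections. -/
theorem surjective_app {S : ShortComplex (SheafOfModules.{w} (ringS Rsh))} (hS : S.ShortExact)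
    (h₁ : IsBCMod A S.X₁) {E : C} (hE : A.aff E) : Function.Surjective (appL S.g E) := by
  have := hS.mono_f
  have : Presheaf.IsLocallySurjective J
      ((PresheafOfModules.toPresheaf _).map (show toPM S.X₂ ⟶ toPM S.X₃ from S.g.val)) := locallySurjective_g hS
  exact surjective_of_exact (show toPM S.X₁ ⟶ toPM S.X₂ from S.f.val) (show toPM S.X₂ ⟶ toPM S.X₃ from S.g.val)
    (fun X => mono_app_injective S.f (op X)) (fun X => exact_app hS (op X)) h₁ S.X₂.isSheaf S.X₃.isSheaf hE

theorem exact_shortExact {S : ShortComplex (SheafOfModules.{w} (ringS Rsh))} (hS : S.ShortExact) (E : C) :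
    Function.Injective (appL S.f E) ∧ Function.Exact (appL S.f E) (appL S.g E) :=
  have := hS.mono_f
  ⟨mono_app_injective S.f (op E), exact_app hS (op E)⟩

/-- An epimorphism of base changing modules is surjective on affine sections. -/
theorem surjective_of_epi {M N : SheafOfModules.{w} (ringS Rsh)} (f : M ⟶ N) [Epi f] (hM : IsBCMod A M)
    (hN : IsBCMod A N) {E : C} (hE : A.aff E) : Function.Surjective (appL f E) :=
  surjective_app (S := ShortComplex.mk (kernel.ι f) f (kernel.condition f))
    { exact := ShortComplex.exact_of_f_is_kernel _ (kernelIsKernel f) } (IsBCMod.kernel f hM hN) hE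

/-- A basis section of a free module. -/
noncomputable def basisSec {I : Type w} (i : I) (E : C) :
    (toPM (SheafOfModules.free (R := ringS Rsh) I)).obj (op E) :=
  appL (SheafOfModules.ιFree i) E (1 : Rsh.obj.obj (op E))

theorem span_basisSec (I : Type w) [Finite I] (E : C) :
    Submodule.span (Rsh.obj.obj (op E)) (Set.range fun i : I => basisSec (Rsh := Rsh) i E) = ⊤ := by
  classical
  have := Fintype.ofFinite I
  let p : I → (SheafOfModules.free (R := ringS Rsh) I ⟶ SheafOfModules.unit (ringS Rsh)) := fun i =>
    Cofan.IsColimit.desc (SheafOfModules.isColimitFreeCofan I) fun j =>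
      if j = i then 𝟙 (SheafOfModules.unit (ringS Rsh)) else 0
  have hp : ∀ i j, SheafOfModules.ιFree j ≫ p i = if j = i then 𝟙 (SheafOfModules.unit (ringS Rsh)) else 0 :=
    fun i j => Cofan.IsColimit.fac (SheafOfModules.isColimitFreeCofan I) _ j
  have hsum : ∑ i, p i ≫ SheafOfModules.ιFree i = 𝟙 (SheafOfModules.free (R := ringS Rsh) I) := by
    refine Cofan.IsColimit.hom_ext (SheafOfModules.isColimitFreeCofan I) _ _ fun j => ?_
    show SheafOfModules.ιFree j ≫ (∑ i, p i ≫ SheafOfModules.ιFree i) =
      SheafOfModules.ιFree j ≫ 𝟙 (SheafOfModules.free (R := ringS Rsh) I)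
    rw [Category.comp_id, Preadditive.comp_sum, Finset.sum_eq_single j]
    · rw [← Category.assoc, hp, if_pos rfl, Category.id_comp]
    · intro i _ hij
      rw [← Category.assoc, hp, if_neg hij.symm, zero_comp]
    · intro h
      exact absurd (Finset.mem_univ j) h
  refine eq_top_iff.2 fun t _ => ?_
  let G := SheafOfModules.forget (ringS Rsh) ⋙ PresheafOfModules.evaluation _ (op E)
  have ht : t = ∑ i, appL (SheafOfModules.ιFree i) E (appL (p i) E t) := by
    have h := congrArg (fun φ => (G.map φ).hom t) hsum
    simp only [Functor.map_sum, Functor.map_comp, CategoryTheory.Functor.map_id, ModuleCat.hom_sum,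
      LinearMap.sum_apply] at h
    exact h.symm
  rw [ht]
  refine Submodule.sum_mem _ fun i _ => ?_
  let r : Rsh.obj.obj (op E) := appL (p i) E t
  have hr : appL (SheafOfModules.ιFree (R := ringS Rsh) i) E (appL (p i) E t) = r • basisSec (Rsh := Rsh) i E := by
    rw [basisSec, ← map_smul]
    exact congrArg _ (mul_one r).symm
  rw [hr]
  exact Submodule.smul_mem _ _ (Submodule.subset_span ⟨i, rfl⟩)

theorem finite_free (I : Type w) [Finite I] (E : C) :
    Module.Finite (Rsh.obj.obj (op E)) ((toPM (SheafOfModules.free (R := ringS Rsh) I)).obj (op E)) :=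
  ⟨Submodule.fg_def.2 ⟨_, Set.finite_range _, span_basisSec I E⟩⟩

theorem basisSec_linearIndependent (I : Type w) [Finite I] (E : C) :
    LinearIndependent (Rsh.obj.obj (op E)) (fun i : I => basisSec (Rsh := Rsh) i E) := by
  classical
  have := Fintype.ofFinite I
  refine Fintype.linearIndependent_iff.2 fun c hc i => ?_
  let p : SheafOfModules.free (R := ringS Rsh) I ⟶ SheafOfModules.unit (ringS Rsh) :=
    Cofan.IsColimit.desc (SheafOfModules.isColimitFreeCofan I) fun j =>
      if j = i then 𝟙 (SheafOfModules.unit (ringS Rsh)) else 0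
  have hp : ∀ j, appL p E (basisSec (Rsh := Rsh) j E) =
      ((if j = i then 1 else 0 : Rsh.obj.obj (op E)) : (toPM (SheafOfModules.unit (ringS Rsh))).obj (op E)) := by
    intro j
    have e : SheafOfModules.ιFree j ≫ p = if j = i then 𝟙 (SheafOfModules.unit (ringS Rsh)) else 0 :=
      Cofan.IsColimit.fac (SheafOfModules.isColimitFreeCofan I) _ j
    refine (congrArg (fun φ => appL φ E (1 : Rsh.obj.obj (op E))) e).trans ?_
    split <;> rfl
  have h := congrArg (appL p E) hc
  rw [map_sum, map_zero] at h
  simp only [map_smul, hp] at h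
  have h' : ∑ j, c j * (if j = i then 1 else 0 : Rsh.obj.obj (op E)) = 0 := h
  simpa using h'

theorem finitePresentation_free (I : Type w) [Finite I] (E : C) :
    Module.FinitePresentation (Rsh.obj.obj (op E)) ((toPM (SheafOfModules.free (R := ringS Rsh) I)).obj (op E)) := by
  have : Module.Free (Rsh.obj.obj (op E)) ((toPM (SheafOfModules.free (R := ringS Rsh) I)).obj (op E)) :=
    Module.Free.of_basis (Module.Basis.mk (basisSec_linearIndependent I E) (span_basisSec I E).ge)
  have := finite_free (Rsh := Rsh) I E
  exact Module.finitePresentation_of_projective _ _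

/-- A global finite presentation gives finitely presented sections. -/
theorem finitePresentation_of_presentation {M : SheafOfModules.{w} (ringS Rsh)} (P : M.Presentation)
    [P.IsFinite] (hM : IsBCMod A M) {E : C} (hE : A.aff E) :
    Module.FinitePresentation (Rsh.obj.obj (op E)) ((toPM M).obj (op E)) := by
  have : Finite P.generators.I := SheafOfModules.GeneratingSections.IsFiniteType.finite
  have : Finite P.relations.I := SheafOfModules.GeneratingSections.IsFiniteType.finite
  have := finitePresentation_free (Rsh := Rsh) P.generators.I E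
  have := finite_free (Rsh := Rsh) P.relations.I E
  refine Module.finitePresentation_of_surjective (appL P.generators.π E)
    (surjective_of_epi _ (IsBCMod.free _) hM hE) ?_
  have h := surjective_of_epi P.relations.π (IsBCMod.free _) (IsBCMod.kernel _ (IsBCMod.free _) hM) hE
  have := Module.Finite.of_surjective _ h
  rw [LinearMap.exact_iff.1 (exact_kernel_app P.generators.π E), LinearMap.range_eq_map]
  exact Module.Finite.fg_top.map _

section Terminal

variable {T : C} (hT : IsTerminal T) (hA : A.aff T) {M : SheafOfModules.{w} (ringS Rsh)}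

include hA in
theorem epi_secT' (hM : IsBCMod A M) {I : Type w} (s : I → (toPM M).obj (op T))
    (hs : Submodule.span (Rsh.obj.obj (op T)) (Set.range s) = ⊤) :
    Epi ((M.freeHomEquiv (I := I)).symm fun i => secT hT (s i)) := by
  refine ⟨fun {N} a b e => ?_⟩
  have hsec : ∀ i, SheafOfModules.sectionsMap a (secT hT (s i)) = SheafOfModules.sectionsMap b (secT hT (s i)) :=
    fun i => by
    have h := congr_fun (congrArg (N.freeHomEquiv (I := I)) e) i
    rw [SheafOfModules.freeHomEquiv_comp_apply, SheafOfModules.freeHomEquiv_comp_apply, Equiv.apply_symm_apply] at h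
    exact h
  have key : appL a T = appL b T := LinearMap.ext_on_range hs fun i => by
    have h := congrArg (fun s : N.sections => s.1 (op T)) (hsec i)
    have e : (M.val.map (hT.from T).op).hom (s i) = s i := by
      rw [hT.hom_ext (hT.from T) (𝟙 T), op_id, M.val.map_id]
      rfl
    change appL a T ((M.val.map (hT.from T).op).hom (s i)) = appL b T ((M.val.map (hT.from T).op).hom (s i)) at h
    rwa [e] at h
  have := epi_secT hT hA hM
  refine (cancel_epi ((M.freeHomEquiv (I := M.val.obj (op T))).symm (secT hT))).1 ?_
  refine N.freeHomEquiv.injective (funext fun x => Subtype.ext (funext fun Y => ?_))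
  rw [SheafOfModules.freeHomEquiv_comp_apply, SheafOfModules.freeHomEquiv_comp_apply, Equiv.apply_symm_apply]
  change (a.val.app Y).hom ((M.val.map (hT.from Y.unop).op).hom x) =
    (b.val.app Y).hom ((M.val.map (hT.from Y.unop).op).hom x)
  rw [PresheafOfModules.naturality_apply, PresheafOfModules.naturality_apply]
  exact congrArg _ (LinearMap.congr_fun key x)

/-- Finitely many generators from finitely generated sections over an affine terminal object. -/
noncomputable def genFin (hM : IsBCMod A M) (S : Finset ((toPM M).obj (op T)))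
    (hS : Submodule.span (Rsh.obj.obj (op T)) (S : Set ((toPM M).obj (op T))) = ⊤) : M.GeneratingSections :=
  ⟨S, fun i => secT hT i.1, epi_secT' hT hA hM Subtype.val (by rw [Subtype.range_coe]; exact hS)⟩

include hT hA in
theorem exists_gen (hM : IsBCMod A M) (h : Module.Finite (Rsh.obj.obj (op T)) ((toPM M).obj (op T))) :
    ∃ G : M.GeneratingSections, G.IsFiniteType := by
  obtain ⟨S, hS⟩ := h.fg_top
  exact ⟨genFin hT hA hM S hS, ⟨inferInstanceAs (Finite S)⟩⟩

include hT hA in
theorem exists_presentation (hM : IsBCMod A M)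
    (h : Module.FinitePresentation (Rsh.obj.obj (op T)) ((toPM M).obj (op T))) :
    ∃ P : M.Presentation, P.IsFinite := by
  obtain ⟨G, hG⟩ := exists_gen hT hA hM inferInstance
  have : Finite G.I := hG.finite
  have := finite_free (Rsh := Rsh) G.I T
  have hker := h.fg_ker _ (surjective_of_epi G.π (IsBCMod.free _) hM hA)
  have := Module.Finite.iff_fg.2 hker
  have hex := exact_kernel_app G.π T
  have hinj : Function.Injective (appL (kernel.ι G.π) T) := mono_app_injective _ _
  have e : LinearMap.range (appL (kernel.ι G.π) T) = LinearMap.ker (appL G.π T) := (LinearMap.exact_iff.1 hex).symm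
  have hK : Module.Finite (Rsh.obj.obj (op T)) ((toPM (kernel G.π)).obj (op T)) :=
    Module.Finite.equiv ((LinearEquiv.ofInjective _ hinj).trans (LinearEquiv.ofEq _ _ e)).symm
  obtain ⟨R, hR⟩ := exists_gen hT hA (IsBCMod.kernel _ (IsBCMod.free _) hM) hK
  exact ⟨⟨G, R⟩, { isFiniteType_generators := hG, isFiniteType_relations := hR }⟩

end Terminal

end Sheaves

section Slices

variable {C : Type u₁} [Category.{v₁} C] {J : GrothendieckTopology C}
  {Rsh : Sheaf J CommRingCat.{w}} [J.HasSheafCompose (forget₂ CommRingCat.{w} RingCat.{w})]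
  {A : AffSite J Rsh.obj}
  [∀ X, HasSheafify (J.over X) AddCommGrpCat.{w}]
  [∀ X, (J.over X).WEqualsLocallyBijective AddCommGrpCat.{w}]
  [∀ X, (J.over X).HasSheafCompose (forget₂ CommRingCat.{w} RingCat.{w})]
  {M : SheafOfModules.{w} (ringS Rsh)}

theorem isBCMod_over (hM : IsBCMod A M) (X : C) :
    IsBCMod (Rsh := Rsh.over X) (A.over X) (M.over X) := fun _ _ g hZ hE => hM g.left hZ hE

theorem finite_of_isFiniteType [M.IsFiniteType] (hM : IsBCMod A M) {E : C} (hE : A.aff E) :
    Module.Finite (Rsh.obj.obj (op E)) ((toPM M).obj (op E)) := by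
  obtain ⟨q, hq⟩ := SheafOfModules.IsFiniteType.exists_localGeneratorsData M
  obtain ⟨U, hU⟩ := exists_affCov (A := A) hE (q.coversTop E)
  refine finite_of_affCov hM U fun i => ?_
  obtain ⟨j, ⟨b⟩⟩ := hU i
  have : (q.generators j).IsFiniteType := hq.isFiniteType j
  have : Finite (q.generators j).I := SheafOfModules.GeneratingSections.IsFiniteType.finite
  let W : Over (q.X j) := Over.mk b
  have hs := surjective_of_epi (Rsh := Rsh.over (q.X j)) (A := A.over (q.X j)) (q.generators j).π
    (IsBCMod.free _) (isBCMod_over hM _) (E := W) (U.affZ i)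
  have := finite_free (Rsh := Rsh.over (q.X j)) (q.generators j).I W
  exact Module.Finite.of_surjective _ hs

theorem finitePresentation_of_isFinitePresentation [M.IsFinitePresentation] (hM : IsBCMod A M) {E : C}
    (hE : A.aff E) : Module.FinitePresentation (Rsh.obj.obj (op E)) ((toPM M).obj (op E)) := by
  obtain ⟨q, hq⟩ := SheafOfModules.IsFinitePresentation.exists_quasicoherentData M
  obtain ⟨U, hU⟩ := exists_affCov (A := A) hE (q.coversTop E)
  refine finitePresentation_of_affCov hM U fun i => ?_
  obtain ⟨j, ⟨b⟩⟩ := hU i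
  exact finitePresentation_of_presentation (Rsh := Rsh.over (q.X j)) (A := A.over (q.X j)) (q.presentation j)
    (isBCMod_over hM _) (E := (Over.mk b : Over (q.X j))) (U.affZ i)

theorem coversTop_aff (A : AffSite J Rsh.obj) : J.CoversTop (fun i : { X : C // A.aff X } => i.1) := fun X => by
  obtain ⟨R, hR, h⟩ := A.exists_affine_cover X
  refine J.superset_covering (fun Y f hf => ?_) hR
  obtain ⟨B, a, b, hB, -⟩ := h f hf
  exact ⟨⟨B, hB⟩, ⟨a⟩⟩

theorem isFiniteType_of_finite (hM : IsBCMod A M)
    (h : ∀ E : C, A.aff E → Module.Finite (Rsh.obj.obj (op E)) ((toPM M).obj (op E))) : M.IsFiniteType := by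
  choose G hG using fun i : { X : C // A.aff X } =>
    exists_gen (Rsh := Rsh.over i.1) (A := A.over i.1) Over.mkIdTerminal i.2 (isBCMod_over hM i.1) (h i.1 i.2)
  exact ⟨⟨_, _, coversTop_aff A, G⟩, ⟨hG⟩⟩

theorem isFinitePresentation_of_finitePresentation (hM : IsBCMod A M)
    (h : ∀ E : C, A.aff E → Module.FinitePresentation (Rsh.obj.obj (op E)) ((toPM M).obj (op E))) :
    M.IsFinitePresentation := by
  choose P hP using fun i : { X : C // A.aff X } =>
    exists_presentation (Rsh := Rsh.over i.1) (A := A.over i.1) Over.mkIdTerminal i.2 (isBCMod_over hM i.1)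
      (h i.1 i.2)
  exact ⟨⟨_, _, coversTop_aff A, P⟩, ⟨hP⟩⟩

end Slices

end Groth.Agent.H13EtMod
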