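import Groth.Agent.H13EtMod.Coh
import Groth.Agent.H12AlgSp.BCMod.PushQcqs
import Groth.Agent.H12AlgSp.AffineMor
import Groth.Agent.H12AlgSp.Proper
import Mathlib.AlgebraicGeometry.Morphisms.Finite
import Mathlib.AlgebraicGeometry.Morphisms.FinitePresentation
import Mathlib.RingTheory.FinitePresentation

/-!
# Direct images along finite morphisms of algebraic spaces
-/

set_option backward.isDefEq.respectTransparency false

universe u w v₁ u₁

open CategoryTheory CategoryTheory.Limits AlgebraicGeometry Opposite
open AlgSp Groth.Agent.H12AlgSp Groth.Agent.H12AlgSp.BCMod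
open Groth.Agent.H13AlgSp (isFiniteMor_iff)

namespace Groth.Agent.H13EtMod

theorem finite_of_tower {A B N : Type*} [CommRing A] [CommRing B] [Algebra A B] [AddCommGroup N] [Module A N]
    [Module B N] [IsScalarTower A B N] [Module.Finite A B] [Module.FinitePresentation A N] :
    Module.FinitePresentation B N := by
  have : Module.Finite B N := Module.Finite.of_restrictScalars_finite A B N
  obtain ⟨n, f, hf⟩ := Module.Finite.exists_fin' B N
  refine Module.finitePresentation_of_surjective f hf ?_
  have h : (LinearMap.ker (f.restrictScalars A)).FG := Module.FinitePresentation.fg_ker _ hf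
  have hA : Module.Finite A (LinearMap.ker f) := Module.Finite.iff_fg.2 h
  exact Module.Finite.iff_fg.1 (Module.Finite.of_restrictScalars_finite A B _)

section Gen

variable {C : Type u₁} [Category.{v₁} C] {Rc : Cᵒᵖ ⥤ CommRingCat.{w}} {P : PM Rc}

theorem finite_of_hom {V W : C} (g : V ⟶ W) (h : IsBC P g) [Module.Finite (Rc.obj (op W)) (P.obj (op W))] :
    Module.Finite (Rc.obj (op V)) (P.obj (op V)) := by
  have := Module.Finite.equiv (idEquiv P W)
  exact (Module.Finite.equiv (extEquiv h) : Module.Finite (RingOf Rc g) (Sec P g))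

theorem finitePresentation_of_hom {V W : C} (g : V ⟶ W) (h : IsBC P g)
    [Module.FinitePresentation (Rc.obj (op W)) (P.obj (op W))] :
    Module.FinitePresentation (Rc.obj (op V)) (P.obj (op V)) := by
  have := Module.FinitePresentation.of_equiv (idEquiv P W)
  exact (Module.FinitePresentation.of_equiv (extEquiv h) : Module.FinitePresentation (RingOf Rc g) (Sec P g))

end Gen

variable {S : Scheme.{u}} {X Y : Sp S} {f : X ⟶ Y} (hf : Representable f)

section Finite

variable (hfin : IsFiniteMor f) (E : EtOver Y) [IsAffine E.obj.left.left]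

include hfin in
omit [IsAffine E.obj.left.left] in
theorem isFinite_snd : IsFinite (hf.snd E.obj.hom).left :=
  (isFiniteMor_iff.1 hfin).2 _ _ _ (hf.isPullback E.obj.hom)

include hfin in
theorem isAffine_bc : IsAffine ((EtOver.bc hf).obj E).obj.left.left :=
  have := isFinite_snd hf hfin E
  isAffine_of_isAffineHom (hf.snd E.obj.hom).left

include hfin in
theorem finite_topHom : (topHom hf E).Finite := by
  have := isFinite_snd hf hfin E
  have h : (hf.snd E.obj.hom).left.appTop.hom.Finite := Scheme.Hom.finite_appTop _
  exact ((RingHom.Finite.of_surjective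
      (ULift.ringEquiv.symm : _ ≃+* ULift.{u + 1} Γ(((EtOver.bc hf).obj E).obj.left.left, ⊤)).toRingHom
      (RingEquiv.surjective _)).comp h).comp
    (RingHom.Finite.of_surjective (ULift.ringEquiv : ULift.{u + 1} Γ(E.obj.left.left, ⊤) ≃+* _).toRingHom
      (RingEquiv.surjective _))

include hfin in
theorem finitePresentation_topHom (hY : IsAlgSpace Y) (hlfp : LocP @LocallyOfFinitePresentation f) :
    (topHom hf E).FinitePresentation := by
  have := isAffine_bc hf hfin E
  have : LocallyOfFinitePresentation (hf.snd E.obj.hom).left :=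
    (repWith_of_locP etLocal_lfp hY hf hlfp).2 _ _ _ (hf.isPullback E.obj.hom)
  have : IsAffine (hf.pullback E.obj.hom).left := isAffine_bc hf hfin E
  have h : (hf.snd E.obj.hom).left.appTop.hom.FinitePresentation :=
    HasRingHomProperty.appTop @LocallyOfFinitePresentation _ ‹_›
  exact ((RingHom.FinitePresentation.of_bijective
      (f := (ULift.ringEquiv.symm : _ ≃+* ULift.{u + 1} Γ(((EtOver.bc hf).obj E).obj.left.left, ⊤)).toRingHom)
      (RingEquiv.bijective _)).comp h).comp
    (RingHom.FinitePresentation.of_bijective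
      (f := (ULift.ringEquiv : ULift.{u + 1} Γ(E.obj.left.left, ⊤) ≃+* _).toRingHom) (RingEquiv.bijective _))

variable {hf} (F : ModEt X)

omit [IsAffine E.obj.left.left] in
/-- The sections of a direct image as sections on the base change, over the functions below. -/
theorem push_finite_iff (h : (topHom hf E).Finite) :
    Module.Finite (OSec E) ((pm ((pushModEt hf).obj F)).obj (op E)) ↔
      Module.Finite (OSec ((EtOver.bc hf).obj E)) ((pm F).obj (op ((EtOver.bc hf).obj E))) := by
  let B := OSec ((EtOver.bc hf).obj E)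
  let N := (pm F).obj (op ((EtOver.bc hf).obj E))
  let _ : Algebra (OSec E) B := (topHom hf E).toAlgebra
  have : Module.Finite (OSec E) B := h
  let _ : Module (OSec E) N := Module.compHom N (topHom hf E)
  have : IsScalarTower (OSec E) B N := IsScalarTower.of_algebraMap_smul fun _ _ => rfl
  let e : ((pm ((pushModEt hf).obj F)).obj (op E)) ≃ₗ[OSec E] N :=
    { toFun := fun x => x
      invFun := fun x => x
      left_inv := fun _ => rfl
      right_inv := fun _ => rfl
      map_add' := fun _ _ => rfl
      map_smul' := fun _ _ => rfl }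
  rw [Module.Finite.equiv_iff e]
  exact ⟨fun _ => Module.Finite.of_restrictScalars_finite (OSec E) B N, fun _ => Module.Finite.trans B N⟩

omit [IsAffine E.obj.left.left] in
/-- The finitely presented version. -/
theorem push_finitePresentation_iff (h : (topHom hf E).Finite) (h' : (topHom hf E).FinitePresentation) :
    Module.FinitePresentation (OSec E) ((pm ((pushModEt hf).obj F)).obj (op E)) ↔
      Module.FinitePresentation (OSec ((EtOver.bc hf).obj E)) ((pm F).obj (op ((EtOver.bc hf).obj E))) := by
  let B := OSec ((EtOver.bc hf).obj E)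
  let N := (pm F).obj (op ((EtOver.bc hf).obj E))
  let _ : Algebra (OSec E) B := (topHom hf E).toAlgebra
  have : Module.Finite (OSec E) B := h
  have : Algebra.FinitePresentation (OSec E) B := h'
  have : Module.FinitePresentation (OSec E) B := Module.FinitePresentation.of_finite_of_finitePresentation _ _
  let _ : Module (OSec E) N := Module.compHom N (topHom hf E)
  have : IsScalarTower (OSec E) B N := IsScalarTower.of_algebraMap_smul fun _ _ => rfl
  let e : ((pm ((pushModEt hf).obj F)).obj (op E)) ≃ₗ[OSec E] N :=
    { toFun := fun x => x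
      invFun := fun x => x
      left_inv := fun _ => rfl
      right_inv := fun _ => rfl
      map_add' := fun _ _ => rfl
      map_smul' := fun _ _ => rfl }
  refine ⟨fun _ => ?_, fun _ => ?_⟩
  · have := Module.FinitePresentation.of_equiv e
    exact finite_of_tower (A := OSec E)
  · have := Module.FinitePresentation.trans (OSec E) N B
    exact Module.FinitePresentation.of_equiv e.symm

end Finite

variable {hf}

/-- Every object is covered by objects mapping to base changes of affine charts of the target. -/
theorem exists_sieve_bc (hY : IsAlgSpace Y) (V : EtOver X) :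
    ∃ R ∈ etTop X V, ∀ ⦃W : EtOver X⦄ (a : W ⟶ V), R.arrows a →
      ∃ E : EtOver Y, IsAffine E.obj.left.left ∧ Nonempty (W ⟶ (EtOver.bc hf).obj E) := by
  refine ⟨{ arrows := fun W _ => ∃ E : EtOver Y, IsAffine E.obj.left.left ∧ Nonempty (W ⟶ (EtOver.bc hf).obj E)
            downward_closed := fun {W W' a} ⟨E, hE, ⟨g⟩⟩ k => ⟨E, hE, ⟨k ≫ g⟩⟩ },
    mem_etTop_of_forall_point _ fun x => ?_, fun W a ha => ha⟩
  obtain ⟨T, p, hp, hps⟩ := hY.atlas
  obtain ⟨t, ht⟩ := surjective_ofPt_of_repWith le_rfl hps (Points.map f (Points.ofPt V.obj.hom x))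
  obtain ⟨_, ⟨O, hO, rfl⟩, htO, -⟩ :=
    T.left.isBasis_affineOpens.exists_subset_of_mem_open (Set.mem_univ t) isOpen_univ
  let E : EtOver Y := etOpen (EtOver.mk p hp) O
  have hE : Points.ofPt E.obj.hom (⟨t, htO⟩ : O) = Points.map f (Points.ofPt V.obj.hom x) := by
    refine Eq.trans ?_ ht
    exact ofPt_map _ _ _
  have hr : Points.ofPt V.obj.hom x ∈ Set.range (Points.ofPt ((EtOver.bc hf).obj E).obj.hom) := by
    rw [← range_map_eq_range_ofPt]
    obtain ⟨q, hq, -⟩ := exists_point_of_isPullback (hf.isPullback E.obj.hom)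
      (Points.ofPt V.obj.hom x) (Points.ofScheme _ (⟨t, htO⟩ : O))
      (by rw [← Points.ofPt_eq_map_ofScheme]; exact hE.symm)
    exact ⟨q, hq⟩
  obtain ⟨W, g, g₀, w, -, hw⟩ := exists_affine_over x hr
  exact ⟨W, g, w, ⟨E, hO, ⟨g₀⟩⟩, hw⟩

theorem isQCoh_push (hX : IsAlgSpace X) (hY : IsAlgSpace Y) (hf : Representable f) (hfin : IsFiniteMor f)
    (F : ModEt X) [F.IsQuasicoherent] : ((pushModEt hf).obj F).IsQuasicoherent := by
  obtain ⟨-, hp⟩ := (isFiniteMor_iff_affine_proper hX hY).1 hfin
  exact isQuasicoherent_pushModEt hf F hp.2.1.2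
    (isQuasiSeparatedMor_of_isSeparatedMor hp.1)

/-- Finiteness of sections can be tested on the base changes of affine charts of the target. -/
theorem finite_of_bc (hY : IsAlgSpace Y) (hfin : IsFiniteMor f) {F : ModEt X} (hF : IsBCEt F)
    (h : ∀ E : EtOver Y, IsAffine E.obj.left.left →
      Module.Finite (OSec ((EtOver.bc hf).obj E)) ((pm F).obj (op ((EtOver.bc hf).obj E))))
    (V : EtOver X) (hV : IsAffine V.obj.left.left) : Module.Finite (OSec V) ((pm F).obj (op V)) := by
  obtain ⟨R, hR, hfac⟩ := exists_sieve_bc hY V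
  obtain ⟨U, hU⟩ := exists_affCov (A := etAff X) hV hR
  refine finite_of_affCov (A := etAff X) hF U fun i => ?_
  obtain ⟨E, hE, ⟨g⟩⟩ := hfac _ (hU i)
  have := h E hE
  exact finite_of_hom g (hF g (U.affZ i) (isAffine_bc hf hfin E))

/-- The finitely presented version of `finite_of_bc`. -/
theorem finitePresentation_of_bc (hY : IsAlgSpace Y) (hfin : IsFiniteMor f) {F : ModEt X} (hF : IsBCEt F)
    (h : ∀ E : EtOver Y, IsAffine E.obj.left.left →
      Module.FinitePresentation (OSec ((EtOver.bc hf).obj E)) ((pm F).obj (op ((EtOver.bc hf).obj E))))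
    (V : EtOver X) (hV : IsAffine V.obj.left.left) :
    Module.FinitePresentation (OSec V) ((pm F).obj (op V)) := by
  obtain ⟨R, hR, hfac⟩ := exists_sieve_bc hY V
  obtain ⟨U, hU⟩ := exists_affCov (A := etAff X) hV hR
  refine finitePresentation_of_affCov (A := etAff X) hF U fun i => ?_
  obtain ⟨E, hE, ⟨g⟩⟩ := hfac _ (hU i)
  have := h E hE
  exact finitePresentation_of_hom g (hF g (U.affZ i) (isAffine_bc hf hfin E))

theorem isFiniteType_push_iff (hX : IsAlgSpace X) (hY : IsAlgSpace Y) (hf : Representable f)
    (hfin : IsFiniteMor f) (F : ModEt X) [F.IsQuasicoherent] :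
    F.IsFiniteType ↔ ((pushModEt hf).obj F).IsFiniteType := by
  rw [isFiniteType_iff inferInstance, isFiniteType_iff (isQCoh_push hX hY hf hfin F)]
  exact ⟨fun h E hE => (push_finite_iff E F (finite_topHom hf hfin E)).2 (h _ (isAffine_bc hf hfin E)),
    fun h => finite_of_bc hY hfin ((isQuasicoherent_iff_isBCEt F).1 inferInstance) fun E hE =>
      (push_finite_iff E F (finite_topHom hf hfin E)).1 (h E hE)⟩

theorem isFinitePresentation_push_iff (hX : IsAlgSpace X) (hY : IsAlgSpace Y) (hf : Representable f)
    (hfin : IsFiniteMor f) (hfp : LocP @LocallyOfFinitePresentation f) (F : ModEt X) [F.IsQuasicoherent] :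
    F.IsFinitePresentation ↔ ((pushModEt hf).obj F).IsFinitePresentation := by
  rw [isFinitePresentation_iff inferInstance, isFinitePresentation_iff (isQCoh_push hX hY hf hfin F)]
  exact ⟨fun h E hE => (push_finitePresentation_iff E F (finite_topHom hf hfin E)
      (finitePresentation_topHom hf hfin E hY hfp)).2 (h _ (isAffine_bc hf hfin E)),
    fun h => finitePresentation_of_bc hY hfin ((isQuasicoherent_iff_isBCEt F).1 inferInstance) fun E hE =>
      (push_finitePresentation_iff E F (finite_topHom hf hfin E)
        (finitePresentation_topHom hf hfin E hY hfp)).1 (h E hE)⟩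

theorem isFinitePresentation_push (hX : IsAlgSpace X) (hY : IsAlgSpace Y) (hf : Representable f)
    (hfin : IsFiniteMor f) (hN : IsLocNoethSp Y) (F : ModEt X) [F.IsFinitePresentation] :
    ((pushModEt hf).obj F).IsFinitePresentation :=
  isFinitePresentation_of_finite hY hN (isQCoh_push hX hY hf hfin F) fun E hE =>
    (push_finite_iff E F (finite_topHom hf hfin E)).2
      (have := isAffine_bc hf hfin E; finite_sec F _)

end Groth.Agent.H13EtMod
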