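import Groth.Agent.H02CA.WeakAss
import Groth.Agent.S9586
import Groth.Agent.S1233
import Groth.Agent.H7Flat.WeakAssFinite
import Mathlib.RingTheory.Ideal.GoingUp
import Mathlib.RingTheory.Ideal.MinimalPrime.Localization
import Mathlib.RingTheory.QuasiFinite.Basic

/-!
# Weakly associated primes under restriction of scalars
-/

universe u

open Groth.Agent.H02CA
open scoped TensorProduct

namespace Groth.Agent.H13EtMod

theorem weakAss_congr {R : Type u} [CommRing R] {M N : Type u} [AddCommGroup M] [Module R M] [AddCommGroup N]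
    [Module R N] (e : M ≃ₗ[R] N) : FlatCA.weakAss R M = FlatCA.weakAss R N :=
  (weakAss_mono e.toLinearMap e.injective).antisymm (weakAss_mono e.symm.toLinearMap e.symm.injective)

variable {A B : Type u} [CommRing A] [CommRing B] [Algebra A B] {N : Type u} [AddCommGroup N] [Module A N]
  [Module B N] [IsScalarTower A B N]

theorem annEl_eq_comap (m : N) : annEl A m = (annEl B m).comap (algebraMap A B) := by
  ext a
  rw [Ideal.mem_comap, mem_annEl, mem_annEl, algebraMap_smul]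

theorem weakAss_subset_comap :
    FlatCA.weakAss A N ⊆ Ideal.comap (algebraMap A B) '' FlatCA.weakAss B N := by
  rintro p ⟨m, hm⟩
  change p ∈ (annEl A m).minimalPrimes at hm
  rw [annEl_eq_comap (B := B)] at hm
  obtain ⟨q, hq, hqp⟩ := Ideal.exists_minimalPrimes_comap_eq (I := annEl B m) (algebraMap A B) p hm
  exact ⟨q, ⟨m, hq⟩, hqp⟩

theorem comap_mem_weakAss_of_noetherian [IsNoetherianRing B] {q : Ideal B} (hq : q ∈ FlatCA.weakAss B N) :
    q.comap (algebraMap A B) ∈ FlatCA.weakAss A N := by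
  obtain ⟨m, hm⟩ := hq
  have := hm.1.1
  obtain ⟨-, m', hm'⟩ := (Groth.Agent.S9586.result N q (IsNoetherian.noetherian q)).2 ⟨m, hm⟩
  exact ass_subset_weakAss ⟨inferInstance, m', by rw [hm']; exact (annEl_eq_comap m').symm⟩

theorem comap_mem_weakAss_of_finite [Module.Finite A B] {q : Ideal B} (hq : q ∈ FlatCA.weakAss B N) :
    q.comap (algebraMap A B) ∈ FlatCA.weakAss A N := by
  classical
  obtain ⟨hqp, m, hle, hrad⟩ := mem_weakAss.1 hq
  set p := q.comap (algebraMap A B) with hpdef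
  have hp : p.IsPrime := Ideal.IsPrime.comap _
  have hfin : (p.primesOver B).Finite := Algebra.QuasiFinite.finite_primesOver p
  obtain ⟨x, hxq, hx⟩ : ∃ x ∈ q, ∀ Q ∈ p.primesOver B, Q ≠ q → x ∉ Q := by
    by_contra hcon
    push Not at hcon
    obtain ⟨Q, hQ, hqQ⟩ := (Ideal.subset_union_prime (s := (hfin.toFinset.erase q)) (f := fun Q : Ideal B => Q) q q
      (fun Q hQ _ _ => (hfin.mem_toFinset.1 (Finset.mem_of_mem_erase hQ)).1)).1 (fun z hz => by
        obtain ⟨Q, hQ, hne, hzQ⟩ := hcon z hz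
        simp only [Set.mem_iUnion]
        exact ⟨Q, Finset.mem_erase.2 ⟨hne, hfin.mem_toFinset.2 hQ⟩, hzQ⟩)
    have hQ' := hfin.mem_toFinset.1 (Finset.mem_of_mem_erase hQ)
    exact Finset.ne_of_mem_erase hQ
      (have := hqp; (Groth.Agent.H7Flat.WeakAssFinite.eq_of_le_of_comap_eq (A := A) hqQ hQ'.2.over.symm.symm).symm)
  obtain ⟨n, y, hy, hyx⟩ := hrad x hxq
  refine mem_weakAss.2 ⟨hp, y • m, ?_⟩
  have hle' : annEl A (y • m) ≤ p := fun a ha => by
    rw [mem_annEl, ← algebraMap_smul B a, smul_smul] at ha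
    exact (hqp.mem_or_mem (hle (mem_annEl.2 ha))).resolve_right hy
  suffices hmin : p ∈ (annEl A (y • m)).minimalPrimes by
    obtain ⟨-, h1, h2⟩ := (minimalPrimes_iff (annEl A (y • m)) p).1 hmin
    exact ⟨h1, fun z hz => by simpa only [mem_annEl] using h2 z hz⟩
  refine ⟨⟨hp, hle'⟩, ?_⟩
  intro p' hp' hp'p
  have := hp'.1
  obtain ⟨p₀, hp₀, hp₀p'⟩ := Ideal.exists_minimalPrimes_le (I := annEl A (y • m)) (J := p') hp'.2
  rw [annEl_eq_comap (B := B)] at hp₀
  obtain ⟨Q, hQ, hQc⟩ := Ideal.exists_minimalPrimes_comap_eq (I := annEl B (y • m)) (algebraMap A B) p₀ hp₀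
  have := hQ.1.1
  obtain ⟨Q', hQQ', hQ', hQ'c⟩ := Ideal.exists_ideal_over_prime_of_isIntegral p Q
    (hQc ▸ hp₀p'.trans hp'p)
  have hxQ' : x ∈ Q' := hQ'.mem_of_pow_mem n (hQQ' (hQ.1.2 (mem_annEl.2 (by
    rw [smul_smul, mul_comm]; exact hyx))))
  have hQq : Q ≤ q := by
    by_contra hQq
    exact hx Q' ⟨hQ', ⟨hQ'c.symm⟩⟩ (fun e => hQq (e ▸ hQQ')) hxQ'
  have hann : annEl B m ≤ Q := fun b hb => hQ.1.2 (by
    rw [mem_annEl] at hb ⊢
    rw [smul_comm, hb, smul_zero])
  have hQeq : q ≤ Q := fun z hz => by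
    obtain ⟨k, w, hw, hwz⟩ := hrad z hz
    exact hQ.1.1.mem_of_pow_mem k (((hQ.1.1.mem_or_mem (hann (mem_annEl.2 hwz)))).resolve_left fun h => hw (hQq h))
  exact (Ideal.comap_mono hQeq).trans (hQc.le.trans hp₀p')

/-- An element killed by a flat base change generates the unit ideal with its annihilator. -/
theorem map_annEl_eq_top {R : Type u} [CommRing R] {B : Type u} [CommRing B] [Algebra R B] [Module.Flat R B]
    {N : Type u} [AddCommGroup N] [Module R N] (x : N) (h : (1 : B) ⊗ₜ[R] x = 0) :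
    (annEl R x).map (algebraMap R B) = ⊤ := by
  let f : (R ⧸ annEl R x) →ₗ[R] N := (annEl R x).liftQ (LinearMap.toSpanSingleton R N x)
    fun r hr => mem_annEl.1 hr
  have hinj : Function.Injective f := LinearMap.ker_eq_bot.1 (Submodule.ker_liftQ_eq_bot _ _ _
    fun r hr => mem_annEl.2 hr)
  have h1 : (1 : B) ⊗ₜ[R] (Submodule.Quotient.mk (1 : R) : R ⧸ annEl R x) = 0 :=
    Module.Flat.lTensor_preserves_injective_linearMap (M := B) f hinj (by
      rw [map_zero, LinearMap.lTensor_tmul]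
      change (1 : B) ⊗ₜ[R] ((1 : R) • x) = 0
      rw [one_smul]
      exact h)
  let mB := Ideal.Quotient.mkₐ R ((annEl R x).map (algebraMap R B))
  let j : R ⧸ annEl R x →ₗ[R] B ⧸ (annEl R x).map (algebraMap R B) :=
    Submodule.liftQ _ (mB.toLinearMap.comp (Algebra.linearMap R B)) fun r hr =>
      Ideal.Quotient.eq_zero_iff_mem.2 (Ideal.mem_map_of_mem _ hr)
  have h2 := congrArg (TensorProduct.lift ((LinearMap.mul R _).compl₁₂ mB.toLinearMap j)) h1
  rw [map_zero, TensorProduct.lift.tmul] at h2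
  change mB 1 * mB (algebraMap R B 1) = 0 at h2
  simp only [map_one, mul_one] at h2
  rw [← map_one mB] at h2
  exact (Ideal.eq_top_iff_one _).2 (Ideal.Quotient.eq_zero_iff_mem.1 h2)

end Groth.Agent.H13EtMod
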