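import Groth.Agent.H13EtMod.Push
import Groth.Agent.H13EtMod.WeakAssAlg
import Groth.Agent.H13WeakAss.Basic
import Groth.Agent.H12AlgSp.Codim
import Groth.Agent.S9582
import Groth.Agent.S9941
import Mathlib.RingTheory.Ideal.Height
import Mathlib.RingTheory.Ideal.AssociatedPrime.Finiteness

/-!
# Weakly associated points of quasi-coherent modules on algebraic spaces
-/

set_option backward.isDefEq.respectTransparency false

universe u

open CategoryTheory CategoryTheory.Limits AlgebraicGeometry Opposite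
open AlgSp Groth.Agent.H12AlgSp Groth.Agent.H12AlgSp.BCMod
open scoped TensorProduct

namespace Groth.Agent.H13EtMod

theorem primeAtPt_eq {U : Scheme.{u}} [IsAffine U] (x : U) :
    primeAtPt U x = ((isAffineOpen_top U).primeIdealOf ⟨x, trivial⟩).asIdeal := by
  rw [(isAffineOpen_top U).primeIdealOf_eq_map_closedPoint]
  rfl

theorem primeAtPt_injective {U : Scheme.{u}} [IsAffine U] {x y : U} (h : primeAtPt U x = primeAtPt U y) :
    x = y := by
  rw [primeAtPt_eq, primeAtPt_eq] at h
  have := congrArg (isAffineOpen_top U).fromSpec (PrimeSpectrum.ext h)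
  rwa [IsAffineOpen.fromSpec_primeIdealOf, IsAffineOpen.fromSpec_primeIdealOf] at this

theorem comap_primeAtPt {U V : Scheme.{u}} (f : U ⟶ V) (x : U) :
    (primeAtPt U x).comap f.appTop.hom = primeAtPt V (f x) := by
  ext a
  simp only [primeAtPt, Ideal.mem_comap]
  refine (Iff.of_eq (congrArg (· ∈ IsLocalRing.maximalIdeal _) (Scheme.Hom.germ_stalkMap_apply f ⊤ x trivial a).symm)).trans ?_
  rw [IsLocalRing.mem_maximalIdeal, IsLocalRing.mem_maximalIdeal, mem_nonunits_iff, mem_nonunits_iff,
    isUnit_map_iff]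

variable {S : Scheme.{u}} {X Y : Sp S}

/-- Functions in the lower universe. -/
noncomputable abbrev down (E : EtOver X) : OSec E →+* Γ(E.obj.left.left, ⊤) :=
  (ULift.ringEquiv : ULift.{u + 1} Γ(E.obj.left.left, ⊤) ≃+* _).toRingHom

/-- The prime of a point among the functions on an object. -/
noncomputable def upP (E : EtOver X) (x : E.obj.left.left) : Ideal (OSec E) :=
  (primeAtPt E.obj.left.left x).comap (down E)

instance (E : EtOver X) (x : E.obj.left.left) : (upP E x).IsPrime := Ideal.IsPrime.comap _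

theorem down_surjective (E : EtOver X) : Function.Surjective (down E) :=
  (ULift.ringEquiv : ULift.{u + 1} Γ(E.obj.left.left, ⊤) ≃+* _).surjective

theorem upP_injective {E : EtOver X} [IsAffine E.obj.left.left] {x y : E.obj.left.left}
    (h : upP E x = upP E y) : x = y :=
  primeAtPt_injective (Ideal.comap_injective_of_surjective _ (down_surjective E) h)

theorem exists_upP (E : EtOver X) [IsAffine E.obj.left.left] (q : Ideal (OSec E)) [q.IsPrime] :
    ∃ x, upP E x = q := by
  let e : ULift.{u + 1} Γ(E.obj.left.left, ⊤) ≃+* Γ(E.obj.left.left, ⊤) := ULift.ringEquiv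
  let q' : Ideal (ULift.{u + 1} Γ(E.obj.left.left, ⊤)) := q
  obtain ⟨x, hx⟩ := Groth.Agent.H13WeakAss.exists_primeAtPt (q'.comap e.symm.toRingHom)
  refine ⟨x, ?_⟩
  rw [upP, hx, Ideal.comap_comap]
  exact Ideal.ext fun r => Iff.rfl

theorem comap_upP {V E : EtOver X} (g : V ⟶ E) (x : V.obj.left.left) :
    (upP V x).comap ((OEt X).obj.map g.op).hom = upP E (g.hom.left.left x) := by
  rw [upP, upP, ← comap_primeAtPt, Ideal.comap_comap, Ideal.comap_comap]
  rfl

theorem annEl_eq {M : ModEt X} {E : EtOver X} (s : (pm M).obj (op E)) :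
    Groth.Agent.H02CA.annEl (OSec E) s = (annSect (M := M) (E := E) s).comap (down E) := by
  ext r
  rw [Groth.Agent.H02CA.mem_annEl, Ideal.mem_comap, mem_annSect_iff]
  rfl

theorem isWeakAssOn_iff {M : ModEt X} (E : EtOver X) [IsAffine E.obj.left.left] (x : E.obj.left.left) :
    IsWeakAssOn M E x ↔ upP E x ∈ FlatCA.weakAss (OSec E) ((pm M).obj (op E)) := by
  refine exists_congr fun s => ?_
  change _ ↔ upP E x ∈ (Groth.Agent.H02CA.annEl (OSec E) (s : (pm M).obj (op E))).minimalPrimes
  rw [annEl_eq, Ideal.comap_minimalPrimes_eq_of_surjective (down_surjective E), upP,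
    (Ideal.comap_injective_of_surjective _ (down_surjective E)).mem_set_image]

theorem etale_comp {A B C : Type*} [CommRing A] [CommRing B] [CommRing C] {f : A →+* B} {g : B →+* C}
    (hf : f.Etale) (hg : g.Etale) : (g.comp f).Etale := by
  algebraize [f, g, g.comp f]
  exact Algebra.Etale.comp A B C

theorem etale_map {V E : EtOver X} (g : V ⟶ E) [IsAffine V.obj.left.left] [IsAffine E.obj.left.left] :
    ((OEt X).obj.map g.op).hom.Etale := by
  have := EtOver.etale_left g
  have h : g.hom.left.left.appTop.hom.Etale := HasRingHomProperty.appTop @Etale _ ‹_›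
  let e₁ : ULift.{u + 1} Γ(E.obj.left.left, ⊤) →+* Γ(E.obj.left.left, ⊤) :=
    (ULift.ringEquiv : ULift.{u + 1} Γ(E.obj.left.left, ⊤) ≃+* _).toRingHom
  let e₂ : Γ(V.obj.left.left, ⊤) →+* ULift.{u + 1} Γ(V.obj.left.left, ⊤) :=
    (ULift.ringEquiv.symm : _ ≃+* ULift.{u + 1} Γ(V.obj.left.left, ⊤)).toRingHom
  have h1 : e₁.Etale := RingHom.Etale.of_bijective (RingEquiv.bijective _)
  have h2 : e₂.Etale := RingHom.Etale.of_bijective (RingEquiv.bijective _)
  have h3 : (g.hom.left.left.appTop.hom.comp e₁).Etale := etale_comp h1 h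
  exact etale_comp h3 h2

/-- Being weakly associated does not change along maps of affine charts. -/
theorem isWeakAssOn_hom_iff {M : ModEt X} (hM : IsBCEt M) {V E : EtOver X} (g : V ⟶ E)
    [IsAffine V.obj.left.left] [IsAffine E.obj.left.left] (x : V.obj.left.left) :
    IsWeakAssOn M V x ↔ IsWeakAssOn M E (g.hom.left.left x) := by
  rw [isWeakAssOn_iff, isWeakAssOn_iff, weakAss_congr (idEquiv (pm M) E)]
  let B := RingOf (OEt X).obj g
  have : Algebra.Etale (OSec E) B := etale_map g
  let u' : Ideal B := upP V x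
  have : u'.IsPrime := inferInstanceAs (upP V x).IsPrime
  have : u'.LiesOver (upP E (g.hom.left.left x)) := ⟨(comap_upP g x).symm⟩
  rw [← Groth.Agent.S1233.result (A := OSec E) (B := B) (Sec (pm M) (𝟙 E)) (upP E (g.hom.left.left x)) u',
    weakAss_congr (extEquiv (hM g ‹IsAffine V.obj.left.left› ‹IsAffine E.obj.left.left›))]
  rfl

/-- Objects over two given ones, affine, through a pair of points with the same image. -/
theorem exists_affine_over_pair {E E' : EtOver X} (x : E.obj.left.left) (x' : E'.obj.left.left)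
    (e : Points.ofPt E.obj.hom x = Points.ofPt E'.obj.hom x') :
    ∃ (V : EtOver X) (g : V ⟶ E) (g' : V ⟶ E') (v : V.obj.left.left),
      IsAffine V.obj.left.left ∧ g.hom.left.left v = x ∧ g'.hom.left.left v = x' := by
  obtain ⟨W, h, g', sq⟩ := E.property.1 E'.obj.hom
  obtain ⟨g, rfl⟩ := (yon S).map_surjective g'
  have : Etale h.left := E.property.2 E'.obj.hom _ h sq
  obtain ⟨p, hp₁, hp₂⟩ := exists_point_of_isPullback sq (Points.ofScheme E.obj.left x)
    (Points.ofScheme E'.obj.left x') (by rw [← Points.ofPt_eq_map_ofScheme, ← Points.ofPt_eq_map_ofScheme, e])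
  obtain ⟨w, rfl⟩ := (Points.schemeEquiv W).surjective p
  let W' : EtOver X := EtOver.mk ((yon S).map h ≫ E'.obj.hom)
    ((repWith_isMultiplicative (S := S) @Etale).comp_mem _ _
      ((repWith_yon_map_iff _ _).2 (show Etale h.left from inferInstance)) E'.property)
  let a : W' ⟶ E' := EtOver.homMk h rfl
  let b : W' ⟶ E := EtOver.homMk g sq.w
  have hg : g.left w = x := (Points.schemeEquiv E.obj.left).injective
    ((Points.map_yon_map_apply g w).symm.trans hp₁)
  have hh : h.left w = x' := (Points.schemeEquiv E'.obj.left).injective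
    ((Points.map_yon_map_apply h w).symm.trans hp₂)
  obtain ⟨_, ⟨O, hO, rfl⟩, hwO, -⟩ :=
    W.left.isBasis_affineOpens.exists_subset_of_mem_open (Set.mem_univ w) isOpen_univ
  exact ⟨etOpen W' O, etOpenι W' O ≫ b, etOpenι W' O ≫ a, (⟨w, hwO⟩ : O), hO, hg, hh⟩

theorem isWeakAssOn_iff_mem {M : ModEt X} (hM : IsBCEt M) (E : EtOver X) [IsAffine E.obj.left.left]
    (x : E.obj.left.left) : IsWeakAssOn M E x ↔ Points.ofPt E.obj.hom x ∈ WeakAssEt M := by
  refine ⟨fun h => ⟨E, inferInstance, x, rfl, h⟩, fun ⟨E', hE', x', e, h⟩ => ?_⟩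
  obtain ⟨V, g, g', v, hV, rfl, rfl⟩ := exists_affine_over_pair x x' e.symm
  rw [← isWeakAssOn_hom_iff hM g v]
  exact (isWeakAssOn_hom_iff hM g' v).2 h

theorem exists_chart_point (hX : IsAlgSpace X) (z : Points X) :
    ∃ (E : EtOver X) (t : E.obj.left.left), IsAffine E.obj.left.left ∧ Points.ofPt E.obj.hom t = z := by
  obtain ⟨T, a, ha, has⟩ := hX.atlas
  obtain ⟨t, ht⟩ := surjective_ofPt_of_repWith le_rfl has z
  obtain ⟨_, ⟨O, hO, rfl⟩, htO, -⟩ :=
    T.left.isBasis_affineOpens.exists_subset_of_mem_open (Set.mem_univ t) isOpen_univ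
  exact ⟨etOpen (EtOver.mk a ha) O, (⟨t, htO⟩ : O), hO, (ofPt_map _ _ _).trans ht⟩

theorem mem_weakAssEt_iff (hX : IsAlgSpace X) {M : ModEt X} (hM : IsBCEt M) (z : Points X) :
    z ∈ WeakAssEt M ↔ ∀ (E : EtOver X) [IsAffine E.obj.left.left] (x : ↥E.obj.left.left),
      Points.ofPt E.obj.hom x = z → IsWeakAssOn M E x := by
  refine ⟨fun h E _ x hx => (isWeakAssOn_iff_mem hM E x).2 (hx ▸ h), fun h => ?_⟩
  obtain ⟨E, t, hE, ht⟩ := exists_chart_point hX z
  exact ⟨E, hE, t, ht, h E t ht⟩

theorem finite_weakAssEt_inter (hX : IsAlgSpace X) (hN : IsLocNoethSp X) (M : ModEt X) [M.IsQuasicoherent]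
    [M.IsFiniteType] (W : Set (Points X)) (hWo : IsOpen W) (hWc : IsCompact W) : (WeakAssEt M ∩ W).Finite := by
  obtain ⟨U, a, hU, ha, hr⟩ := exists_affine_chart hX hWo hWc
  let E : EtOver X := EtOver.mk a ha
  have : IsAffine E.obj.left.left := hU
  have := isNoetherianRing_OSec hX hN E
  have := (isFiniteType_iff (M := M) inferInstance).1 inferInstance E ‹IsAffine E.obj.left.left›
  have hfin : (FlatCA.weakAss (OSec E) ((pm M).obj (op E))).Finite := by
    refine (associatedPrimes.finite (OSec E) ((pm M).obj (op E))).subset ?_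
    rintro q ⟨m, hm⟩
    have := hm.1.1
    obtain ⟨hq, m', rfl⟩ :=
      (Groth.Agent.S9586.result ((pm M).obj (op E)) q (IsNoetherian.noetherian q)).2 ⟨m, hm⟩
    have hc : (⊥ : Submodule (OSec E) ((pm M).obj (op E))).colon {m'} =
        (Submodule.span (OSec E) {m'}).annihilator := by
      ext r
      rw [Submodule.mem_colon, Submodule.mem_annihilator_span_singleton]
      exact ⟨fun h => (Submodule.mem_bot (OSec E)).1 (h m' rfl), fun h y hy => hy ▸ (Submodule.mem_bot (OSec E)).2 h⟩
    exact ⟨hq, m', by rw [hc, Ideal.radical_eq_iff.2 hq.isRadical]⟩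
  refine (((hfin.preimage fun x _ y _ h => upP_injective h)).image (Points.ofPt E.obj.hom)).subset ?_
  rintro z ⟨hz, hzW⟩
  obtain ⟨x, rfl⟩ := (hr.symm ▸ hzW : z ∈ Set.range (Points.ofPt E.obj.hom))
  exact ⟨x, (isWeakAssOn_iff E x).1 ((isWeakAssOn_iff_mem ((isQuasicoherent_iff_isBCEt M).1 inferInstance) E x).2 hz),
    rfl⟩

theorem eq_zero_of_weakAss {M : ModEt X} (hM : IsBCEt M) (E₀ : EtOver X)
    (hE : WeakAssEt M ⊆ Set.range (Points.ofPt E₀.obj.hom)) {W : EtOver X} [IsAffine W.obj.left.left]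
    (d : (pm M).obj (op W))
    (hd : ∀ (V : EtOver X) (g : V ⟶ W), Nonempty (V ⟶ E₀) → ((pm M).map g.op).hom d = 0) : d = 0 := by
  by_contra hne
  obtain ⟨q, hq, hle⟩ := Groth.Agent.H02CA.exists_weakAss_ge (R := OSec W) hne
  have hqp : q.IsPrime := by obtain ⟨m, hm⟩ := hq; exact hm.1.1
  obtain ⟨x, rfl⟩ := exists_upP W q
  have hx : Points.ofPt W.obj.hom x ∈ WeakAssEt M := ⟨W, inferInstance, x, rfl, (isWeakAssOn_iff W x).2 hq⟩
  obtain ⟨x₀, hx₀⟩ := hE hx
  obtain ⟨V, g, g₀, v, hV, rfl, -⟩ := exists_affine_over_pair x x₀ hx₀.symm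
  have : Module.Flat (OSec W) (RingOf (OEt X).obj g) :=
    (etAff X).flat g ‹IsAffine W.obj.left.left› hV
  have h1 : (1 : RingOf (OEt X).obj g) ⊗ₜ[OSec W] toSec (pm M) (𝟙 W) d = 0 :=
    (hM g hV ‹IsAffine W.obj.left.left›).1 (by
      rw [map_zero, ext_tmul, one_smul]
      exact hd V g ⟨g₀⟩)
  have htop := map_annEl_eq_top (B := RingOf (OEt X).obj g) _ h1
  have hsub : (Groth.Agent.H02CA.annEl (OSec W) (toSec (pm M) (𝟙 W) d)) ≤ upP W (g.hom.left.left v) := by
    rw [← Groth.Agent.H02CA.annEl_map_of_injective (idEquiv (pm M) W).toLinearMap (idEquiv (pm M) W).injective d] at hle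
    exact hle
  refine (inferInstance : (upP V v).IsPrime).ne_top (top_le_iff.1 (htop.ge.trans ?_))
  rw [Ideal.map_le_iff_le_comap]
  exact hsub.trans (comap_upP g v).ge

theorem sections_eval_injective {M : ModEt X} (hM : IsBCEt M) (E₀ : EtOver X)
    (hE : WeakAssEt M ⊆ Set.range (Points.ofPt E₀.obj.hom)) :
    Function.Injective (fun s : M.sections => PresheafOfModules.sections.eval s (op E₀)) := by
  intro s t hst
  have hst' : s.1 (op E₀) = t.1 (op E₀) := hst
  have key : ∀ W : EtOver X, IsAffine W.obj.left.left → s.1 (op W) = t.1 (op W) := fun W hW => by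
    refine sub_eq_zero.1 (eq_zero_of_weakAss hM E₀ hE _ fun V g ⟨h⟩ => ?_)
    rw [map_sub, sub_eq_zero]
    exact ((PresheafOfModules.sections_property s g.op).trans (PresheafOfModules.sections_property s h.op).symm).trans
      ((congrArg _ hst').trans ((PresheafOfModules.sections_property t h.op).trans
        (PresheafOfModules.sections_property t g.op).symm))
  refine Subtype.ext (funext fun ⟨Z⟩ => ?_)
  obtain ⟨R, hR, hfac⟩ := (etAff X).exists_affine_cover Z
  refine sheaf_ext (Rc := (OEt X).obj) (P := pm M) M.isSheaf hR _ _ fun V f hf => ?_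
  obtain ⟨B, p, q, hB, rfl⟩ := hfac f hf
  exact ((PresheafOfModules.sections_property s (p ≫ q).op).trans
    ((PresheafOfModules.sections_property s p.op).symm.trans ((congrArg _ (key B hB)).trans
      (PresheafOfModules.sections_property t p.op)))).trans (PresheafOfModules.sections_property t (p ≫ q).op).symm

theorem upP_mem_minimalPrimes_iff {E : EtOver X} [IsAffine E.obj.left.left] (x : E.obj.left.left) :
    upP E x ∈ minimalPrimes (OSec E) ↔ ringKrullDim (E.obj.left.left.presheaf.stalk x) = 0 := by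
  let hT := isAffineOpen_top E.obj.left.left
  let _ : Algebra Γ(E.obj.left.left, ⊤) (E.obj.left.left.presheaf.stalk x) :=
    TopCat.Presheaf.algebra_section_stalk E.obj.left.left.presheaf (⟨x, trivial⟩ : (⊤ : E.obj.left.left.Opens))
  have : IsLocalization.AtPrime (E.obj.left.left.presheaf.stalk x) (hT.primeIdealOf ⟨x, trivial⟩).asIdeal :=
    hT.isLocalization_stalk ⟨x, trivial⟩
  rw [IsLocalization.AtPrime.ringKrullDim_eq_height (hT.primeIdealOf ⟨x, trivial⟩).asIdeal
    (E.obj.left.left.presheaf.stalk x), WithBot.coe_eq_zero, Ideal.height_eq_zero_iff, ← primeAtPt_eq]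
  have h0 : (⊥ : Ideal Γ(E.obj.left.left, ⊤)).comap (down E) = ⊥ := by
    ext r
    exact ⟨fun h => ULift.down_injective (h.trans rfl), fun h => by rw [show r = 0 from h]; exact zero_mem _⟩
  change upP E x ∈ (⊥ : Ideal (OSec E)).minimalPrimes ↔ _
  rw [← h0, Ideal.comap_minimalPrimes_eq_of_surjective (down_surjective E), upP,
    (Ideal.comap_injective_of_surjective _ (down_surjective E)).mem_set_image]

theorem mem_weakAssEt_unit_iff (hX : IsAlgSpace X) (hR : IsReducedSp X) [(unitModEt X).IsQuasicoherent]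
    (z : Points X) : z ∈ WeakAssEt (unitModEt X) ↔
      HasAt (fun U u => ringKrullDim ↥(U.presheaf.stalk u) = 0) X z := by
  have hM := (isQuasicoherent_iff_isBCEt (unitModEt X)).1 inferInstance
  have key : ∀ (E : EtOver X) [IsAffine E.obj.left.left] (x : E.obj.left.left),
      IsWeakAssOn (unitModEt X) E x ↔ ringKrullDim (E.obj.left.left.presheaf.stalk x) = 0 := fun E _ x => by
    have : IsReduced E.obj.left.left := by
      have h : ∀ y : E.obj.left.left, _root_.IsReduced (E.obj.left.left.presheaf.stalk y) := fun y => by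
        obtain ⟨U, a, u, ha, e, hu⟩ := (hasAt_isReduced_iff hX).1 hR (Points.ofPt E.obj.hom y)
        obtain ⟨W, g, h', w, hg, hh, rfl, rfl⟩ := exists_common_chart hX ha E.property e
        have := isReduced_stalk_of_etale g.left w
        exact isReduced_stalk_of_flat h'.left w
      exact isReduced_of_isReduced_stalk _
    have : _root_.IsReduced (OSec E) :=
      isReduced_of_injective (down E) (RingEquiv.injective _)
    rw [isWeakAssOn_iff, ← upP_mem_minimalPrimes_iff, ← Groth.Agent.S9582.result (R := OSec E)]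
    rfl
  constructor
  · rintro ⟨E, hE, x, rfl, h⟩
    exact ⟨E.obj.left, E.obj.hom, x, E.property, rfl, (key E x).1 h⟩
  · rintro ⟨U, a, v, ha, rfl, hv⟩
    obtain ⟨_, ⟨O, hO, rfl⟩, hvO, -⟩ :=
      U.left.isBasis_affineOpens.exists_subset_of_mem_open (Set.mem_univ v) isOpen_univ
    let E : EtOver X := etOpen (EtOver.mk a ha) O
    have : IsAffine E.obj.left.left := hO
    refine ⟨E, hO, (⟨v, hvO⟩ : O), ofPt_map _ _ _, (key E _).2 ?_⟩
    rw [ringKrullDim_stalk_eq_zero_iff]
    exact @mem_genericPoints_of_lqf _ _ (Scheme.Opens.ι (X := U.left) O) (lqf_of_etale (Scheme.Opens.ι (X := U.left) O)) _ ((ringKrullDim_stalk_eq_zero_iff _).1 hv)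

section Push

variable {f : X ⟶ Y} {hf : Representable f} (M : ModEt X) (E : EtOver Y)

theorem comap_upP_topHom (w : ((EtOver.bc hf).obj E).obj.left.left) :
    (upP ((EtOver.bc hf).obj E) w).comap (topHom hf E) = upP E ((hf.snd E.obj.hom).left w) := by
  rw [upP, upP, ← comap_primeAtPt, Ideal.comap_comap, Ideal.comap_comap]
  rfl

theorem map_ofPt_bc (w : ((EtOver.bc hf).obj E).obj.left.left) :
    Points.map f (Points.ofPt ((EtOver.bc hf).obj E).obj.hom w) =
      Points.ofPt E.obj.hom ((hf.snd E.obj.hom).left w) := by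
  rw [Points.map_ofPt, ← ofPt_map]
  exact congrArg (fun a => Points.ofPt a w) (hf.isPullback E.obj.hom).w

theorem exists_bc_point (hY : IsAlgSpace Y) (z : Points X) :
    ∃ (E : EtOver Y) (w : ((EtOver.bc hf).obj E).obj.left.left), IsAffine E.obj.left.left ∧
      Points.ofPt ((EtOver.bc hf).obj E).obj.hom w = z := by
  obtain ⟨E, t, hE, ht⟩ := exists_chart_point hY (Points.map f z)
  obtain ⟨p, hp, -⟩ := exists_point_of_isPullback (hf.isPullback E.obj.hom) z (Points.ofScheme E.obj.left t)
    (by rw [← Points.ofPt_eq_map_ofScheme]; exact ht.symm)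
  obtain ⟨w, rfl⟩ := (Points.schemeEquiv _).surjective p
  exact ⟨E, w, hE, (Points.ofPt_eq_map_ofScheme _ w).trans hp⟩

/-- The sections of a direct image over the smaller ring. -/
theorem weakAss_push (T : Ideal (OSec E)) :
    letI : Algebra (OSec E) (OSec ((EtOver.bc hf).obj E)) := (topHom hf E).toAlgebra
    letI : Module (OSec E) ((pm M).obj (op ((EtOver.bc hf).obj E))) := Module.compHom _ (topHom hf E)
    T ∈ FlatCA.weakAss (OSec E) ((pm ((pushModEt hf).obj M)).obj (op E)) ↔
      T ∈ FlatCA.weakAss (OSec E) ((pm M).obj (op ((EtOver.bc hf).obj E))) :=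
  Iff.rfl

theorem weakAssEt_push_subset (haff : IsAffineMor f) :
    WeakAssEt ((pushModEt hf).obj M) ⊆ Points.map f '' WeakAssEt M := by
  rintro _ ⟨E, hE, x, rfl, h⟩
  rw [isWeakAssOn_iff] at h
  let B := (EtOver.bc hf).obj E
  let _ : Algebra (OSec E) (OSec B) := (topHom hf E).toAlgebra
  let _ : Module (OSec E) ((pm M).obj (op B)) := Module.compHom _ (topHom hf E)
  have : IsScalarTower (OSec E) (OSec B) ((pm M).obj (op B)) := IsScalarTower.of_algebraMap_smul fun _ _ => rfl
  have : IsAffineHom (hf.snd E.obj.hom).left :=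
    (Groth.Agent.H13AlgSp.isAffineMor_iff.1 haff).2 _ _ _ (hf.isPullback E.obj.hom)
  have : IsAffine B.obj.left.left := isAffine_of_isAffineHom (hf.snd E.obj.hom).left
  obtain ⟨q, hq, hqx⟩ := weakAss_subset_comap (B := OSec B) ((weakAss_push M E _).1 h)
  have hqp : q.IsPrime := by obtain ⟨m, hm⟩ := hq; exact hm.1.1
  obtain ⟨w, rfl⟩ := exists_upP B q
  refine ⟨Points.ofPt B.obj.hom w, ⟨B, ‹_›, w, rfl, (isWeakAssOn_iff B w).2 hq⟩, ?_⟩
  rw [map_ofPt_bc E w]
  exact congrArg _ (upP_injective ((comap_upP_topHom E w).symm.trans hqx))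

theorem weakAssEt_push_superset (hY : IsAlgSpace Y) (haff : IsAffineMor f) (hM : IsBCEt M)
    (h : ∀ E : EtOver Y, IsAffine E.obj.left.left →
      (topHom hf E).Finite ∨ IsNoetherianRing (OSec ((EtOver.bc hf).obj E))) :
    Points.map f '' WeakAssEt M ⊆ WeakAssEt ((pushModEt hf).obj M) := by
  rintro _ ⟨z, hz, rfl⟩
  obtain ⟨E, w, hE, rfl⟩ := exists_bc_point (hf := hf) hY z
  let B := (EtOver.bc hf).obj E
  let _ : Algebra (OSec E) (OSec B) := (topHom hf E).toAlgebra
  let _ : Module (OSec E) ((pm M).obj (op B)) := Module.compHom _ (topHom hf E)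
  have : IsScalarTower (OSec E) (OSec B) ((pm M).obj (op B)) := IsScalarTower.of_algebraMap_smul fun _ _ => rfl
  have : IsAffineHom (hf.snd E.obj.hom).left :=
    (Groth.Agent.H13AlgSp.isAffineMor_iff.1 haff).2 _ _ _ (hf.isPullback E.obj.hom)
  have : IsAffine B.obj.left.left := isAffine_of_isAffineHom (hf.snd E.obj.hom).left
  have hq := (isWeakAssOn_iff B w).1 ((isWeakAssOn_iff_mem hM B w).2 hz)
  rw [map_ofPt_bc E w]
  refine ⟨E, hE, _, rfl, (isWeakAssOn_iff E _).2 ((weakAss_push M E _).2 ?_)⟩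
  rw [← comap_upP_topHom E w]
  rcases h E hE with h | h
  · have : Module.Finite (OSec E) (OSec B) := h
    exact comap_mem_weakAss_of_finite hq
  · exact comap_mem_weakAss_of_noetherian hq

end Push

end Groth.Agent.H13EtMod
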