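import Groth.Agent.H13EtMod.StalkNbhd
import Groth.Agent.H13EtMod.WeakAss
import Groth.Agent.H12AlgSp.IdealEt
import Groth.Agent.H12AlgSp.BCMod.Supported
import Groth.Agent.H13Cartier.Sum

/-!
# Coherent modules supported on a closed subspace are killed by a power of its ideal
-/

set_option backward.isDefEq.respectTransparency false

universe u

open CategoryTheory CategoryTheory.Limits AlgebraicGeometry Opposite
open AlgSp Groth.Agent.H12AlgSp Groth.Agent.H12AlgSp.BCMod
open scoped TensorProduct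

namespace Groth.Agent.H13EtMod

variable {S : Scheme.{u}} {X : Sp S} {Z : Sp S} {i : Z ⟶ X} {I : IdealEt X}

theorem zeroLocus_eq (hZ : IsCutOutBy I i) (E : EtOver X) (hE : IsAffine E.obj.left.left) :
    E.obj.left.left.zeroLocus (U := ⊤) (I.ideal E hE : Set Γ(E.obj.left.left, ⊤)) =
      {e | Points.ofPt E.obj.hom e ∈ Set.range (Points.map i)} := by
  obtain ⟨K, hK, e⟩ := Groth.Agent.H13Cartier.exists_cutsOut_ideal hZ E hE
  obtain ⟨q, sq⟩ := hK
  have h1 : {e | Points.ofPt E.obj.hom e ∈ Set.range (Points.map i)} = (K.support : Set E.obj.left.left) :=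
    (preimage_ofPt_range sq).trans K.range_subschemeι
  rw [h1, ← e]
  have h2 := Scheme.IdealSheafData.coe_support_inter K ⟨⊤, isAffineOpen_top E.obj.left.left⟩
  simpa using h2.symm

theorem res_smul (M : ModEt X) {V E : EtOver X} (g : V ⟶ E) (a : Γ(E.obj.left.left, ⊤)) (s : (pm M).obj (op E)) :
    ((pm M).map g.op).hom (upR E a • s) = upR V (g.hom.left.left.appTop.hom a) • ((pm M).map g.op).hom s := by
  rw [map_smul_sec]
  rfl

theorem annEl_upR {M : ModEt X} {E : EtOver X} (s : (pm M).obj (op E)) (a : Γ(E.obj.left.left, ⊤)) :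
    a ∈ annSect (M := M) (E := E) s ↔ upR E a • s = 0 :=
  mem_annSect_iff _ _

/-- A section killed on a flat chart has annihilator not contained in the primes of that chart. -/
theorem notMem_zeroLocus_annSect {M : ModEt X} (hM : IsBCEt M) {E : EtOver X} [IsAffine E.obj.left.left]
    (s : (pm M).obj (op E)) {V : EtOver X} [IsAffine V.obj.left.left] (g : V ⟶ E)
    (hs : ((pm M).map g.op).hom s = 0) (v : V.obj.left.left) :
    g.hom.left.left v ∉ E.obj.left.left.zeroLocus (U := ⊤)
      ((annSect (M := M) s : Ideal Γ(E.obj.left.left, ⊤)) : Set Γ(E.obj.left.left, ⊤)) := by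
  intro hmem
  have : Module.Flat (OSec E) (RingOf (OEt X).obj g) :=
    (etAff X).flat g ‹IsAffine E.obj.left.left› ‹IsAffine V.obj.left.left›
  have h1 : (1 : RingOf (OEt X).obj g) ⊗ₜ[OSec E] toSec (pm M) (𝟙 E) s = 0 :=
    (hM g ‹IsAffine V.obj.left.left› ‹IsAffine E.obj.left.left›).1 (by
      rw [map_zero, ext_tmul, one_smul]; exact hs)
  have htop := map_annEl_eq_top (B := RingOf (OEt X).obj g) _ h1
  refine (inferInstance : (upP V v).IsPrime).ne_top (top_le_iff.1 (htop.ge.trans ?_))
  rw [Ideal.map_le_iff_le_comap]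
  refine le_trans ?_ (comap_upP g v).ge
  intro r hr
  have hr' : r.down ∈ annSect (M := M) s := by
    rw [annEl_upR]
    rw [Groth.Agent.H02CA.mem_annEl] at hr
    exact ((idEquiv (pm M) E).injective (((idEquiv (pm M) E).map_smul r s).trans
      (hr.trans (map_zero (idEquiv (pm M) E)).symm)))
  change E.obj.left.left.presheaf.germ ⊤ (g.hom.left.left v) trivial r.down ∈ IsLocalRing.maximalIdeal _
  rw [IsLocalRing.mem_maximalIdeal, mem_nonunits_iff, ← Scheme.mem_basicOpen]
  exact (Scheme.mem_zeroLocus_iff _ _ _).1 hmem _ hr'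

theorem germ_eq_zero_of_kills (hX : IsAlgSpace X) (hZ : IsCutOutBy I i) {M : ModEt X} {n : ℕ}
    (h : ∀ (E : EtOver X) (hE : IsAffine E.obj.left.left) (s : sectModEt M E), (I ^ n).ideal E hE ≤ annSect s)
    {x : FieldPt X} (hx : x.IsGeometric) (hxZ : Points.mk x ∉ Set.range (Points.map i))
    {E : EtOver X} (l : (FieldPt.liftsTo x).obj E) (s : (pm M).obj (op E)) : germ x M l s = 0 := by
  obtain ⟨V₀, g₀, l₀, hl₀, hV₀, -⟩ := exists_affine_le hx l isOpen_univ (Set.mem_univ _)
  obtain ⟨V, g, l', hll, hV, hr⟩ := exists_affine_le hx l₀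
    (W := (V₀.obj.left.left.zeroLocus (U := ⊤) (I.ideal V₀ hV₀ : Set Γ(V₀.obj.left.left, ⊤)))ᶜ)
    (V₀.obj.left.left.zeroLocus_isClosed _).isOpen_compl (by
      rw [zeroLocus_eq hZ]
      intro hmem
      apply hxZ
      rw [mk_geometric_of_lift l₀]
      exact hmem)
  rw [← germ_res hX hx M g₀ l l₀ hl₀ s, ← germ_res hX hx M g l₀ l' hll]
  have htop : I.ideal V hV = ⊤ := by
    by_contra hne
    obtain ⟨m, hm, hle⟩ := Ideal.exists_le_maximal _ hne
    obtain ⟨w, hw⟩ := Groth.Agent.H13WeakAss.exists_primeAtPt m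
    have hmem : w ∈ V.obj.left.left.zeroLocus (U := ⊤) (I.ideal V hV : Set Γ(V.obj.left.left, ⊤)) := by
      rw [Scheme.mem_zeroLocus_iff]
      intro a ha hau
      have := hle ha
      rw [← hw] at this
      change V.obj.left.left.presheaf.germ ⊤ w trivial a ∈ IsLocalRing.maximalIdeal _ at this
      rw [IsLocalRing.mem_maximalIdeal, mem_nonunits_iff] at this
      exact this ((Scheme.mem_basicOpen_top _ a w).1 hau)
    rw [zeroLocus_eq hZ] at hmem
    refine hr ⟨w, rfl⟩ ?_
    rw [zeroLocus_eq hZ]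
    change Points.ofPt V₀.obj.hom (g.hom.left.left w) ∈ Set.range (Points.map i)
    rw [ofPt_map_etOver g w]
    exact hmem
  have h1 := (annEl_upR _ _).1 (h V hV (((pm M).map g.op).hom (((pm M).map g₀.op).hom s))
    (show (1 : Γ(V.obj.left.left, ⊤)) ∈ (I ^ n).ideal V hV by
      change (1 : Γ(V.obj.left.left, ⊤)) ∈ I.ideal V hV ^ n
      rw [htop, ← Ideal.one_eq_top, one_pow, Ideal.one_eq_top]; exact Submodule.mem_top))
  rw [map_one, one_smul] at h1
  rw [h1]
  exact map_zero _

theorem smul_swap {M : ModEt X} {E : EtOver X} (a c : OSec E) (z : (pm M).obj (op E)) : a • c • z = c • a • z :=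
  smul_comm a c z

theorem kills_of_hom {M : ModEt X} (hM : IsBCEt M) {V E₀ : EtOver X} [IsAffine V.obj.left.left]
    [IsAffine E₀.obj.left.left] (g₀ : V ⟶ E₀) {b : Γ(E₀.obj.left.left, ⊤)}
    (h0 : ∀ x : (pm M).obj (op E₀), upR E₀ b • x = 0) (y : (pm M).obj (op V)) :
    upR V (g₀.hom.left.left.appTop.hom b) • y = 0 := by
  have key : ∀ t, upR V (g₀.hom.left.left.appTop.hom b) • ofSec (pm M) (ext (pm M) g₀ t) = 0 := fun t => by
    induction t with
    | zero => rw [map_zero]; exact smul_zero _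
    | add p q hp hq =>
      rw [map_add]
      exact (smul_add _ _ _).trans ((congrArg₂ (· + ·) hp hq).trans (add_zero _))
    | tmul c x =>
      rw [ext_tmul]
      change upR V _ • ((c : OSec V) • ((pm M).map g₀.op).hom (ofSec (pm M) x)) = (0 : (pm M).obj (op V))
      refine (smul_swap _ (c : OSec V) _).trans ?_
      rw [← res_smul, h0, map_zero]
      exact smul_zero (c : OSec V)
  obtain ⟨t, ht⟩ := (hM g₀ ‹IsAffine V.obj.left.left› ‹IsAffine E₀.obj.left.left›).2 (toSec (pm M) g₀ y)
  exact (congrArg (fun z => upR V (g₀.hom.left.left.appTop.hom b) • ofSec (pm M) z) ht).symm.trans (key t)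

set_option maxHeartbeats 1000000 in
theorem exists_kills (hX : IsAlgSpace X) (hqc : IsQuasiCompactSp X) (hN : IsLocNoethSp X) (hI : I.IsQCoh)
    (hZ : IsCutOutBy I i) (M : ModEt X) [M.IsFinitePresentation]
    (h : ∀ x : FieldPt X, x.IsGeometric → Points.mk x ∉ Set.range (Points.map i) →
      IsZero (stalkEt x ((toAbEt X).obj M))) :
    ∃ n : ℕ, ∀ (E : EtOver X) (hE : IsAffine E.obj.left.left) (s : sectModEt M E),
      (I ^ n).ideal E hE ≤ annSect s := by
  classical
  have := (isQuasiCompactSp_iff hX).1 hqc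
  obtain ⟨W, a, hW, ha, hr⟩ := exists_affine_chart hX isOpen_univ isCompact_univ
  let E₀ : EtOver X := EtOver.mk a ha
  have : IsAffine E₀.obj.left.left := hW
  have hM := isBCEt_of_fp M
  have := finite_sec M E₀
  have hnoeth : IsNoetherianRing Γ(E₀.obj.left.left, ⊤) := by
    have := isLocallyNoetherian_chart hX hN E₀.property
    exact IsLocallyNoetherian.component_noetherian ⟨⊤, isAffineOpen_top _⟩
  obtain ⟨T, hT⟩ := Module.Finite.fg_top (R := OSec E₀) (M := (pm M).obj (op E₀))
  let J := I.ideal E₀ ‹_›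
  have hJ : ∀ t : (pm M).obj (op E₀), J ≤ (annSect (M := M) (E := E₀) t).radical := fun t => by
    refine le_radical_of_zeroLocus_subset fun w hw => ?_
    rw [zeroLocus_eq hZ]
    by_contra hwZ
    obtain ⟨p, hp, l, hl⟩ := exists_geometric_lift E₀ w
    have hz := h p hp (by rw [mk_geometric_of_lift l, hl]; exact hwZ)
    have := AddCommGrpCat.subsingleton_of_isZero hz
    obtain ⟨V, g, hg, v, hv⟩ := (germ_eq_zero_iff hX hp M l t).1 (Subsingleton.elim _ _)
    obtain ⟨_, ⟨O, hO, rfl⟩, hvO, -⟩ :=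
      V.obj.left.left.isBasis_affineOpens.exists_subset_of_mem_open (Set.mem_univ v) isOpen_univ
    have : IsAffine (etOpen V O).obj.left.left := hO
    refine notMem_zeroLocus_annSect hM t (etOpenι V O ≫ g) ?_ (⟨v, hvO⟩ : O) ?_
    · rw [← map_comp_sec g (etOpenι V O) t, show ((pm M).map g.op).hom t = 0 from hg]
      exact map_zero _
    · have e : (etOpenι V O ≫ g).hom.left.left (⟨v, hvO⟩ : O) = w := hv.trans hl
      rw [e]
      exact hw
  have hfg : J.FG := IsNoetherian.noetherian J
  choose m hm using fun t => Ideal.exists_pow_le_of_le_radical_of_fg (hJ t) hfg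
  refine ⟨T.sup m, fun E hE s r hrmem => ?_⟩
  let n := T.sup m
  have h0 : ∀ x : (pm M).obj (op E₀), ∀ b ∈ J ^ n, upR E₀ b • x = 0 := fun x => by
    have hx : x ∈ Submodule.span (OSec E₀) (T : Set ((pm M).obj (op E₀))) := by rw [hT]; trivial
    induction hx using Submodule.span_induction with
    | mem x hx => exact fun b hb => (annEl_upR x b).1 (hm x (Ideal.pow_le_pow_right (Finset.le_sup hx) hb))
    | zero => exact fun b _ => smul_zero _
    | add p q _ _ hp hq => exact fun b hb => by rw [smul_add, hp b hb, hq b hb, add_zero]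
    | smul c p _ hp => exact fun b hb => by rw [smul_comm, hp b hb, smul_zero]
  rw [annEl_upR]
  let R : Sieve E :=
    { arrows := fun V g => ((pm M).map g.op).hom (upR E r • s) = 0
      downward_closed := fun {V W g} hg k => by
        rw [← map_comp_sec g k, hg]
        exact map_zero _ }
  have hR : R ∈ etTop X E := mem_etTop_of_forall_point _ fun e => by
    obtain ⟨V, g, g₀, v, hV, hv⟩ := exists_affine_over (E₀ := E₀) e (hr.symm ▸ Set.mem_univ _)
    refine ⟨V, g, v, ?_, hv⟩
    change ((pm M).map g.op).hom (upR E r • s) = 0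
    rw [res_smul]
    have hrV : g.hom.left.left.appTop.hom r ∈ (J ^ n).map g₀.hom.left.left.appTop.hom := by
      rw [Ideal.map_pow]
      refine Ideal.pow_right_mono (hI g₀ ‹_› hV) n ?_
      exact Ideal.pow_right_mono (I.map_le g hE hV) n (by
        exact Ideal.map_pow (f := g.hom.left.left.appTop.hom) _ n ▸ Ideal.mem_map_of_mem _ hrmem)
    generalize g.hom.left.left.appTop.hom r = ρ at hrV ⊢
    induction hrV using Submodule.span_induction with
    | mem b hb =>
      obtain ⟨b, hb, rfl⟩ := hb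
      exact kills_of_hom hM g₀ (fun x => h0 x b hb) _
    | zero => rw [map_zero, zero_smul]
    | add p q _ _ hp hq => rw [map_add, add_smul, hp, hq, add_zero]
    | smul c p _ hp => rw [smul_eq_mul, map_mul, mul_smul, hp, smul_zero]
  exact sheaf_ext (Rc := (OEt X).obj) (P := pm M) M.isSheaf hR _ 0 fun V g hg => hg.trans (map_zero _).symm

end Groth.Agent.H13EtMod
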