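import Groth.Agent.H13EtMod.ModEtGroth
import Groth.Agent.H16Derived.QCoprod
import Groth.Agent.H26Tor.Exact
import Groth.Agent.H12AlgSp.BCMod.EtSite

/-!
# Cohomology sheaves of direct sums in the derived category of modules
-/

set_option backward.isDefEq.respectTransparency false

universe u

open CategoryTheory CategoryTheory.Limits AlgebraicGeometry
attribute [local instance] HasDerivedCategory.standard
open AlgSp Groth.Agent.H12AlgSp Groth.Agent.H12AlgSp.BCMod

namespace Groth.Agent.H13EtMod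

variable {S : Scheme.{u}} {X : Sp S}

open DerivedCategory in
theorem nonempty_HDMod_sigma {ι : Type (u + 1)} (E : ι → DModEt X) [HasCoproduct E] (n : ℤ) :
    Nonempty (DCoh.HDMod (OEtRing X) (∐ E) n ≅ ∐ fun i => DCoh.HDMod (OEtRing X) (E i) n) := by
  have := isGrothendieckAbelian_modEt X
  have hi : ∀ i, ∃ C : CochainComplex (ModEt X) ℤ, Nonempty (Q.obj C ≅ E i) := fun i =>
    have := Localization.essSurj (DerivedCategory.Q (C := ModEt X))
      (HomologicalComplex.quasiIso (ModEt X) (ComplexShape.up ℤ))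
    ⟨_, ⟨Q.objObjPreimageIso (E i)⟩⟩
  choose C hC using hi
  have := H16Derived.QCoprod.preservesColimitsOfShape_Q (A := ModEt X) ι
  have : ∀ i : ℤ, PreservesColimitsOfShape (Discrete ι) ((𝟭 (CochainComplex (ModEt X) ℤ)) ⋙
      HomologicalComplex.eval (ModEt X) (ComplexShape.up ℤ) i) := fun i =>
    inferInstanceAs (PreservesColimitsOfShape (Discrete ι) (HomologicalComplex.eval (ModEt X) (ComplexShape.up ℤ) i))
  have hH : PreservesColimitsOfShape (Discrete ι) (𝟭 _ ⋙
      HomologicalComplex.homologyFunctor (ModEt X) (ComplexShape.up ℤ) n) :=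
    H26Tor.preservesColimitsOfShape_homology _ n
  have := hH
  have : HasColimit (Discrete.functor C ⋙ Q) :=
    ⟨⟨⟨_, isColimitOfPreserves Q (colimit.isColimit (Discrete.functor C))⟩⟩⟩
  have : HasCoproduct (fun i => Q.obj (C i)) := hasColimit_of_iso (Discrete.compNatIsoDiscrete C Q).symm
  let e : ∐ E ≅ Q.obj (∐ C) :=
    HasColimit.isoOfNatIso (G := Discrete.functor fun i => Q.obj (C i))
      (Discrete.natIso fun i => (hC i.as).some.symm) ≪≫ (PreservesCoproduct.iso Q C).symm
  exact ⟨(homologyFunctor (ModEt X) n).mapIso e ≪≫ (homologyFunctorFactors (ModEt X) n).app (∐ C) ≪≫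
    PreservesCoproduct.iso (𝟭 _ ⋙ HomologicalComplex.homologyFunctor (ModEt X) (ComplexShape.up ℤ) n) C ≪≫
    Sigma.mapIso fun i => ((homologyFunctorFactors (ModEt X) n).app (C i)).symm ≪≫
      (homologyFunctor (ModEt X) n).mapIso (hC i).some⟩

theorem isQuasicoherent_sigma {ι : Type (u + 1)} (M : ι → ModEt X) [HasCoproduct M]
    (h : ∀ i, (M i).IsQuasicoherent) : (∐ M).IsQuasicoherent := by
  rw [isQuasicoherent_iff_isBCEt]
  exact IsBCMod.colimit (Rsh := OEt X) (colimit.cocone (Discrete.functor M)) (colimit.isColimit _)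
    fun j => (isQuasicoherent_iff_isBCEt _).1 (h j.as)

theorem isQCohDMod_sigma {ι : Type (u + 1)} (E : ι → DModEt X) [HasCoproduct E]
    (h : ∀ i, DCoh.IsQCohDMod (OEtRing X) (E i)) : DCoh.IsQCohDMod (OEtRing X) (∐ E) := fun n => by
  obtain ⟨e⟩ := nonempty_HDMod_sigma E n
  have := isGrothendieckAbelian_modEt X
  exact (SheafOfModules.isQuasicoherent (OEtRing X)).prop_of_iso e.symm
    (isQuasicoherent_sigma _ fun i => h i n)

end Groth.Agent.H13EtMod
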