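import Groth.Prelude.Def_AlgSpPerf
import Groth.Agent.H13EtMod.Coh
import Groth.Agent.S6689

/-!
# Cohomology sheaves of pseudo-coherent objects
-/

set_option backward.isDefEq.respectTransparency false

universe w v₁ u₁ u

open CategoryTheory CategoryTheory.Limits AlgebraicGeometry Opposite
attribute [local instance] HasDerivedCategory.standard
open AlgSp Groth.Agent.H12AlgSp Groth.Agent.H12AlgSp.BCMod

namespace Groth.Agent.H13EtMod

section Generic

variable {C : Type u₁} [Category.{v₁} C] {J : GrothendieckTopology C} {Rsh : Sheaf J CommRingCat.{w}}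
  [J.HasSheafCompose (forget₂ CommRingCat.{w} RingCat.{w})]
  [HasSheafify J AddCommGrpCat.{w}] [J.WEqualsLocallyBijective AddCommGrpCat.{w}]
  {A : AffSite J Rsh.obj}

theorem isBCMod_of_retract {M N : SheafOfModules.{w} (ringS Rsh)} (i : M ⟶ N) (p : N ⟶ M) (h : i ≫ p = 𝟙 M)
    (hN : IsBCMod A N) : IsBCMod A M := by
  let e : M ≅ kernel (𝟙 N - p ≫ i) :=
    { hom := kernel.lift _ i (by simp [reassoc_of% h])
      inv := kernel.ι _ ≫ p
      hom_inv_id := by simp [h]
      inv_hom_id := by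
        apply equalizer.hom_ext
        have := kernel.condition (𝟙 N - p ≫ i)
        rw [Preadditive.comp_sub, Category.comp_id, sub_eq_zero] at this
        simp [← this] }
  exact IsBCMod.of_iso e.symm (IsBCMod.kernel _ hN hN)

theorem isBCMod_homology (K : ShortComplex (SheafOfModules.{w} (ringS Rsh))) (h₁ : IsBCMod A K.X₁)
    (h₂ : IsBCMod A K.X₂) (h₃ : IsBCMod A K.X₃) : IsBCMod A K.homology :=
  IsBCMod.of_iso K.homologyIsoCokernelLift.symm (IsBCMod.cokernel _ h₁ (IsBCMod.kernel _ h₂ h₃))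

end Generic

variable {S : Scheme.{u}} {X : Sp S}

set_option maxHeartbeats 1600000 in
theorem isQuasicoherent_of_locallyEt (M : ModEt X)
    (h : ∀ U, LocallyEt (fun V => IsBCMod (Rsh := (OEt X).over V) ((etAff X).over V) ((resModEt V).obj M)) U) :
    M.IsQuasicoherent := by
  rw [isQuasicoherent_iff_isBCEt]
  intro Z E g hZ hE
  obtain ⟨ι, V, w, hw, hV⟩ := h E
  obtain ⟨U, hU⟩ := exists_affCov (A := etAff X) hE (Precoverage.generate_mem_toGrothendieck hw)
  refine isBC_of_cover M.isSheaf g hZ U fun i W' W r hW' hW a => ?_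
  obtain ⟨_, b, _, ⟨j⟩, -⟩ := hU i
  exact hV j (Over.homMk r : Over.mk (r ≫ a ≫ b) ⟶ Over.mk (a ≫ b)) hW' hW

theorem isBCMod_of_isFinFreeSummand {V : EtOver X} {M : ModEtOn V}
    (h : DCoh.IsFinFreeSummandMod (OEtOn V) M) :
    IsBCMod (Rsh := (OEt X).over V) ((etAff X).over V) M := by
  obtain ⟨n, i, p, hip⟩ := h
  exact isBCMod_of_retract (Rsh := (OEt X).over V) (M := M) i p hip (IsBCMod.free (Rsh := (OEt X).over V) _)

theorem isQuasicoherent_HDMod (m : ℤ) (K : DModEt X) (hK : IsPseudoCoherentEtD m K) (i : ℤ) (hi : m < i) :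
    (DCoh.HDMod (OEtRing X) K i).IsQuasicoherent := by
  refine isQuasicoherent_of_locallyEt _ fun U => ?_
  obtain ⟨ι, V, g, hg, hV⟩ := hK U
  refine ⟨ι, V, g, hg, fun j => ?_⟩
  obtain ⟨E, α, hE, hα, -⟩ := hV j
  obtain ⟨e⟩ := S6689.nonempty_homology_mapDerivedCategory (resModEt (V j)) K i
  have : IsIso ((DerivedCategory.homologyFunctor (ModEtOn (V j)) i).map α) := hα i hi
  have e' := ((DerivedCategory.homologyFunctorFactors (ModEtOn (V j)) i).app E).symm ≪≫
    asIso ((DerivedCategory.homologyFunctor (ModEtOn (V j)) i).map α) ≪≫ e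
  refine IsBCMod.of_iso (Rsh := (OEt X).over (V j)) (A := (etAff X).over (V j)) e' ?_
  exact isBCMod_homology (Rsh := (OEt X).over (V j)) (A := (etAff X).over (V j)) (E.sc i) (isBCMod_of_isFinFreeSummand (hE.2 _))
    (isBCMod_of_isFinFreeSummand (hE.2 _)) (isBCMod_of_isFinFreeSummand (hE.2 _))

end Groth.Agent.H13EtMod
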