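import Groth.Agent.H13EtMod.Tilde
import Groth.Agent.H13AlgSp.PullFP
import Mathlib.RingTheory.IsTensorProduct

/-!
Sections of pullbacks of quasi-coherent modules over affine objects are base changes.
-/

set_option backward.isDefEq.respectTransparency false
set_option linter.unusedVariables false
set_option linter.unusedSectionVars false

universe u w v₁ v₂ u₁ u₂

open CategoryTheory CategoryTheory.Limits Opposite
open Groth.Agent.H12AlgSp.BCMod Groth.Agent.H13EtMod

namespace Groth.Agent.H13EtMod.PullSec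

section Site

variable {C : Type u₁} [Category.{v₁} C] {J : GrothendieckTopology C}
  {Rsh : Sheaf J CommRingCat.{w}} [J.HasSheafCompose (forget₂ CommRingCat.{w} RingCat.{w})]
  [HasSheafify J AddCommGrpCat.{w}] [J.WEqualsLocallyBijective AddCommGrpCat.{w}]
  {A : AffSite J Rsh.obj}
  {D : Type u₂} [Category.{v₂} D] {K : GrothendieckTopology D}
  {Rsh' : Sheaf K CommRingCat.{w}} [K.HasSheafCompose (forget₂ CommRingCat.{w} RingCat.{w})]
  [HasSheafify K AddCommGrpCat.{w}] [K.WEqualsLocallyBijective AddCommGrpCat.{w}]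
  {A' : AffSite K Rsh'.obj}
  {F : C ⥤ D} [Functor.IsContinuous F J K]
  (ψ : ringS Rsh ⟶ (F.sheafPushforwardContinuous RingCat.{w} J K).obj (ringS Rsh'))
  {T : C} (hT : IsTerminal T) (hT' : IsTerminal (F.obj T))

/-- The map on global functions. -/
noncomputable abbrev ringHomT : Rsh.obj.obj (op T) →+* Rsh'.obj.obj (op (F.obj T)) :=
  (ψ.hom.app (op T)).hom

/-- The map of global sections given by a map to a direct image. -/
noncomputable def globalMap {M : SheafOfModules.{w} (ringS Rsh)} {L : SheafOfModules.{w} (ringS Rsh')}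
    (η : M ⟶ (SheafOfModules.pushforward.{w} ψ).obj L) :
    letI := (ringHomT ψ (T := T)).toAlgebra
    letI := Module.compHom ((toPM L).obj (op (F.obj T))) (ringHomT ψ (T := T))
    (toPM M).obj (op T) →ₗ[Rsh.obj.obj (op T)] (toPM L).obj (op (F.obj T)) :=
  letI := (ringHomT ψ (T := T)).toAlgebra
  letI := Module.compHom ((toPM L).obj (op (F.obj T))) (ringHomT ψ (T := T))
  { toFun := fun z => (η.val.app (op T)).hom z
    map_add' := fun z z' => map_add _ z z'
    map_smul' := fun a z => (η.val.app (op T)).hom.map_smul a z }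

include hT hT' in
/-- The global sections of a pullback form the base change of the global sections. -/
theorem isBaseChange_global {M : SheafOfModules.{w} (ringS Rsh)} {L : SheafOfModules.{w} (ringS Rsh')}
    (η : M ⟶ (SheafOfModules.pushforward.{w} ψ).obj L) (hη : IsUniv (SheafOfModules.pushforward.{w} ψ) η)
    (hM : IsBCMod A M) (hL : IsBCMod A' L) (hA : A.aff T) (hA' : A'.aff (F.obj T)) :
    letI := (ringHomT ψ (T := T)).toAlgebra
    letI := Module.compHom ((toPM L).obj (op (F.obj T))) (ringHomT ψ (T := T))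
    haveI : IsScalarTower (Rsh.obj.obj (op T)) (Rsh'.obj.obj (op (F.obj T))) ((toPM L).obj (op (F.obj T))) :=
      IsScalarTower.of_algebraMap_smul fun _ _ => rfl
    IsBaseChange (Rsh'.obj.obj (op (F.obj T))) (globalMap ψ (T := T) η) := by
  let _ := (ringHomT ψ (T := T)).toAlgebra
  let _ := Module.compHom ((toPM L).obj (op (F.obj T))) (ringHomT ψ (T := T))
  have : IsScalarTower (Rsh.obj.obj (op T)) (Rsh'.obj.obj (op (F.obj T))) ((toPM L).obj (op (F.obj T))) :=
    IsScalarTower.of_algebraMap_smul fun _ _ => rfl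
  refine IsBaseChange.of_lift_unique _ ?_
  intro Q _ _ _ _ g
  let _ : AddCommGroup Q := Module.addCommMonoidToAddCommGroup (Rsh'.obj.obj (op (F.obj T)))
  obtain ⟨N, hN, ⟨ι⟩⟩ := Tilde.exists_sheaf (Rsh := Rsh') (A := A') hT' hA' Q
  have hsmul : ∀ (a : Rsh.obj.obj (op T)) (q : Q), ι (a • q) = ringHomT ψ a • ι q := fun a q => by
    rw [← IsScalarTower.algebraMap_smul (Rsh'.obj.obj (op (F.obj T))) a q, map_smul]
    rfl
  let φ : (toPM M).obj (op T) →ₗ[Rsh.obj.obj (op T)] (toPM ((SheafOfModules.pushforward.{w} ψ).obj N)).obj (op T) :=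
    { toFun := fun z => ι (g z)
      map_add' := fun z z' => by rw [map_add, map_add]
      map_smul' := fun a z => by rw [map_smul, hsmul]; rfl }
  obtain ⟨a, ha⟩ := Tilde.exists_hom hT hA hM _ φ
  obtain ⟨k, hk : η ≫ _ = a⟩ := (hη N).2 a
  let g' : (toPM L).obj (op (F.obj T)) →ₗ[Rsh'.obj.obj (op (F.obj T))] Q :=
    ι.symm.toLinearMap.comp (k.val.app (op (F.obj T))).hom
  have hg' : ∀ z, g' (globalMap ψ (T := T) η z) = g z := fun z => by
    refine (congrArg ι.symm ?_).trans (ι.symm_apply_apply (g z))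
    exact (congrArg (fun m => (SheafOfModules.Hom.val m |>.app (op T)).hom z) hk).trans (ha z)
  refine ⟨g', LinearMap.ext hg', fun g'' hg'' => ?_⟩
  obtain ⟨k'', hk''⟩ := Tilde.exists_hom hT' hA' hL N (ι.toLinearMap.comp g'')
  have : k'' = k := (hη N).1 (Tilde.hom_ext_global hT hA hM fun z => by
    refine (hk'' (globalMap ψ (T := T) η z)).trans ?_
    refine Eq.trans ?_ ((congrArg (fun m => (SheafOfModules.Hom.val m |>.app (op T)).hom z) hk).trans (ha z)).symm
    exact congrArg ι (LinearMap.congr_fun hg'' z))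
  subst this
  refine LinearMap.ext fun y => ?_
  change g'' y = ι.symm ((k''.val.app (op (F.obj T))).hom y)
  rw [hk'' y]
  exact (ι.symm_apply_apply _).symm

end Site

section Et

open AlgebraicGeometry AlgSp Groth.Agent.H12AlgSp

variable {S : Scheme.{u}} {X Y : Sp S} {f : X ⟶ Y} (hr : Representable f)

/-- The terminal object of a slice goes to a terminal object. -/
noncomputable def isTerminalPost (E : EtOver Y) :
    IsTerminal ((Over.post (EtOver.bc hr)).obj (Over.mk (𝟙 E))) :=
  IsTerminal.ofIso Over.mkIdTerminal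
    (Over.isoMk (Iso.refl _) (by
      change 𝟙 _ ≫ (EtOver.bc hr).map (𝟙 E) = 𝟙 _
      rw [CategoryTheory.Functor.map_id, Category.id_comp]))

/-- Sections of the pullback over the base change of an affine object. -/
theorem exists_isBaseChange [(SheafOfModules.pushforward.{u + 1} (bcRingHom hr)).IsRightAdjoint]
    (G : ModEt Y) [G.IsQuasicoherent] [hq : ((pullModEt hr).obj G).IsQuasicoherent] (E : EtOver Y)
    [IsAffine E.obj.left.left] [IsAffine ((EtOver.bc hr).obj E).obj.left.left] :
    letI := (topHom hr E).toAlgebra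
    letI := Module.compHom ((pm ((pullModEt hr).obj G)).obj (op ((EtOver.bc hr).obj E))) (topHom hr E)
    haveI : IsScalarTower (OSec E) (OSec ((EtOver.bc hr).obj E))
        ((pm ((pullModEt hr).obj G)).obj (op ((EtOver.bc hr).obj E))) :=
      IsScalarTower.of_algebraMap_smul fun _ _ => rfl
    ∃ l : (pm G).obj (op E) →ₗ[OSec E] (pm ((pullModEt hr).obj G)).obj (op ((EtOver.bc hr).obj E)),
      IsBaseChange (OSec ((EtOver.bc hr).obj E)) l := by
  haveI := preservesBinaryProducts_bc hr
  haveI : ∀ E : EtOver Y, (Over.post (X := E) (EtOver.bc hr)).IsContinuous ((etTop Y).over E)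
      ((etTop X).over ((EtOver.bc hr).obj E)) := isContinuous_post_bc hr
  have hL := isUnivPush_unit (bcRingHom hr) G
  let η₀ := overEquiv' (bcRingHom hr) E hL _ (𝟙 _)
  have h₀ : IsUniv (pushPost (bcRingHom hr) E) η₀ := fun N => by
    have h : (fun k : ((pullModEt hr).obj G).over ((EtOver.bc hr).obj E) ⟶ N =>
        η₀ ≫ (pushPost (bcRingHom hr) E).map k) = overEquiv' (bcRingHom hr) E hL N := by
      funext k
      rw [← overEquiv'_comp, Category.id_comp]
    rw [h]
    exact Equiv.bijective _
  have hG : IsBCEt G := (isQuasicoherent_iff_isBCEt G).1 inferInstance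
  have hP : IsBCEt ((pullModEt hr).obj G) := (isQuasicoherent_iff_isBCEt _).1 hq
  refine ⟨_, isBaseChange_global (Rsh := (OEt Y).over E) (Rsh' := (OEt X).over ((EtOver.bc hr).obj E))
    (A := (etAff Y).over E) (A' := (etAff X).over ((EtOver.bc hr).obj E))
    (F := Over.post (EtOver.bc hr)) (postHom (bcRingHom hr) E) Over.mkIdTerminal (isTerminalPost hr E)
    η₀ h₀ (fun Z W g hZ hW => hG g.left hZ hW) (fun Z W g hZ hW => hP g.left hZ hW)
    ‹IsAffine E.obj.left.left› ‹IsAffine ((EtOver.bc hr).obj E).obj.left.left›⟩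

end Et

end Groth.Agent.H13EtMod.PullSec
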