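import Groth.Agent.H13EtMod.Coh
import Groth.Agent.H12AlgSp.EtSupport
import Groth.Agent.H12AlgSp.OpenSub

/-!
# Coherent modules: spreading out properties of stalks at geometric points
-/

set_option backward.isDefEq.respectTransparency false

universe u

open CategoryTheory CategoryTheory.Limits AlgebraicGeometry Opposite
open AlgSp Groth.Agent.H12AlgSp Groth.Agent.H12AlgSp.BCMod

namespace Groth.Agent.H13EtMod

open scoped Groth.Agent.H18Et

variable {S : Scheme.{u}} {X : Sp S}

/-- The germ of a section at a geometric point. -/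
noncomputable abbrev germ (p : FieldPt X) (M : ModEt X) {E : EtOver X} (l : (FieldPt.liftsTo p).obj E)
    (s : (pm M).obj (op E)) : ((stalkEt p ((toAbEt X).obj M) : AddCommGrpCat.{u + 1}) : Type (u + 1)) :=
  (stalkEtι p ((toAbEt X).obj M) ⟨E, l⟩).hom s

theorem map_germ (hX : IsAlgSpace X) {p : FieldPt X} (hp : p.IsGeometric) {M N : ModEt X} (φ : M ⟶ N)
    {E : EtOver X} (l : (FieldPt.liftsTo p).obj E) (s : (pm M).obj (op E)) :
    ((stalkEtFunctor AddCommGrpCat.{u + 1} p).map ((toAbEt X).map φ)).hom (germ p M l s) =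
      germ p N l (appE φ E s) :=
  GrothendieckTopology.Point.toPresheafFiber_naturality_apply (etPoint p hX hp) ((toAbEt X).map φ).hom E l s

theorem exists_germ (hX : IsAlgSpace X) {p : FieldPt X} (hp : p.IsGeometric) (M : ModEt X)
    (z : ((stalkEt p ((toAbEt X).obj M) : AddCommGrpCat.{u + 1}) : Type (u + 1))) :
    ∃ (E : EtOver X) (l : (FieldPt.liftsTo p).obj E) (s : (pm M).obj (op E)), germ p M l s = z := by
  obtain ⟨E, l, s, h⟩ := (etPoint p hX hp).toPresheafFiber_jointly_surjective (P := ((toAbEt X).obj M).obj) z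
  exact ⟨E, l, s, h⟩

/-- An affine chart through a geometric point. -/
theorem exists_affine_nbhd (hX : IsAlgSpace X) {p : FieldPt X} (hp : p.IsGeometric) :
    ∃ (E : EtOver X) (_ : (FieldPt.liftsTo p).obj E), IsAffine E.obj.left.left := by
  obtain ⟨T, a, ha, has⟩ := hX.atlas
  obtain ⟨t, ht⟩ := surjective_ofPt_of_repWith le_rfl has (Points.mk p)
  obtain ⟨_, ⟨O, hO, rfl⟩, htO, -⟩ :=
    T.left.isBasis_affineOpens.exists_subset_of_mem_open (Set.mem_univ t) isOpen_univ
  obtain ⟨l, -⟩ := exists_lift_of_mk_eq hp (etOpen (EtOver.mk a ha) O) (⟨t, htO⟩ : O)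
    ((ofPt_map _ _ _).trans ht)
  exact ⟨_, l, hO⟩

/-- An affine open neighbourhood of a lift inside a given open set. -/
theorem exists_affine_le {p : FieldPt X} (hp : p.IsGeometric) {E : EtOver X} (l : (FieldPt.liftsTo p).obj E)
    {W : Set ↥E.obj.left.left} (hW : IsOpen W)
    (hl : l.1.left (default : Spec (CommRingCat.of p.K)) ∈ W) :
    ∃ (V : EtOver X) (g : V ⟶ E) (l' : (FieldPt.liftsTo p).obj V), (FieldPt.liftsTo p).map g l' = l ∧
      IsAffine V.obj.left.left ∧ Set.range g.hom.left.left ⊆ W := by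
  obtain ⟨_, ⟨O, hO, rfl⟩, hlO, hOW⟩ :=
    E.obj.left.left.isBasis_affineOpens.exists_subset_of_mem_open hl hW
  obtain ⟨l', hl'⟩ := exists_lift_etOver hp (etOpenι E O) l (⟨_, hlO⟩ : O) rfl
  exact ⟨_, etOpenι E O, l', hl', hO, fun _ ⟨w, hw⟩ => hOW (hw ▸ w.2)⟩

theorem res_eq_zero (M : ModEt X) {E V : EtOver X} (g : V ⟶ E) (s : (pm M).obj (op E))
    (h : Set.range g.hom.left.left ⊆ zeroLocus ((toAbEt X).obj M) s) : ((pm M).map g.op).hom s = 0 :=
  (map_eq_zero_iff ((toAbEt X).obj M) s g).2 h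

theorem germ_eq_zero_iff (hX : IsAlgSpace X) {p : FieldPt X} (hp : p.IsGeometric) (M : ModEt X) {E : EtOver X}
    (l : (FieldPt.liftsTo p).obj E) (s : (pm M).obj (op E)) :
    germ p M l s = 0 ↔ l.1.left (default : Spec (CommRingCat.of p.K)) ∈ zeroLocus ((toAbEt X).obj M) s :=
  stalkEtι_eq_zero_iff hX hp ((toAbEt X).obj M) l s

/-- A quasi-coherent module with finitely generated sections near a geometric point at which all germs vanish
vanishes on an affine chart through the point. -/
theorem exists_chart_subsingleton (hX : IsAlgSpace X) {p : FieldPt X} (hp : p.IsGeometric) {Q : ModEt X}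
    (hQ : IsBCEt Q) {E : EtOver X} [hE : IsAffine E.obj.left.left] (l : (FieldPt.liftsTo p).obj E)
    [Module.Finite (OSec E) ((pm Q).obj (op E))] (h : ∀ s : (pm Q).obj (op E), germ p Q l s = 0) :
    ∃ (V : EtOver X) (_ : (FieldPt.liftsTo p).obj V), IsAffine V.obj.left.left ∧
      Subsingleton ((pm Q).obj (op V)) := by
  obtain ⟨T, hT⟩ := Module.Finite.fg_top (R := OSec E) (M := (pm Q).obj (op E))
  obtain ⟨V, g, l', -, hV, hr⟩ := exists_affine_le hp l
    (W := ⋂ t ∈ T, zeroLocus ((toAbEt X).obj Q) t)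
    (isOpen_biInter_finset fun t _ => isOpen_zeroLocus _ _)
    (Set.mem_iInter₂.2 fun t _ => (germ_eq_zero_iff hX hp Q l t).1 (h t))
  refine ⟨V, l', hV, subsingleton_of_forall_eq 0 fun y => ?_⟩
  have h0 : ∀ x : (pm Q).obj (op E), ((pm Q).map g.op).hom x = 0 := fun x => by
    have hx : x ∈ Submodule.span (OSec E) (T : Set ((pm Q).obj (op E))) := by rw [hT]; trivial
    induction hx using Submodule.span_induction with
    | mem x hx => exact res_eq_zero Q g x (hr.trans (Set.biInter_subset_of_mem hx))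
    | zero => exact map_zero _
    | add a b _ _ ha hb => exact ((map_add _ _ _).trans (congrArg₂ (· + ·) ha hb)).trans (add_zero _)
    | smul r a _ ha => exact (map_smul_sec g r a).trans ((congrArg _ ha).trans (smul_zero _))
  obtain ⟨t, ht⟩ := (hQ g hV hE).2 (toSec (pm Q) g y)
  have ht0 : ext (pm Q) g t = 0 := by
    induction t generalizing y with
    | zero => exact map_zero _
    | tmul b x =>
      rw [ext_tmul]
      exact (congrArg (b • ·) (h0 (ofSec (pm Q) x))).trans (smul_zero _)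
    | add a b ha hb => rw [map_add, ha (ofSec (pm Q) (ext (pm Q) g a)) rfl, hb (ofSec (pm Q) (ext (pm Q) g b)) rfl, add_zero]
  exact (congrArg (ofSec (pm Q)) ht).symm.trans (congrArg (ofSec (pm Q)) ht0)

theorem continuous_ofPt' (E : EtOver X) : Continuous (Points.ofPt E.obj.hom) :=
  Points.continuous_ofPt _

theorem germ_res (hX : IsAlgSpace X) {p : FieldPt X} (hp : p.IsGeometric) (M : ModEt X) {E V : EtOver X}
    (g : V ⟶ E) (l : (FieldPt.liftsTo p).obj E) (l' : (FieldPt.liftsTo p).obj V)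
    (hl : (FieldPt.liftsTo p).map g l' = l) (t : (pm M).obj (op E)) :
    germ p M l' (((pm M).map g.op).hom t) = germ p M l t := by
  subst hl
  exact (etPoint p hX hp).toPresheafFiber_w_apply g l' ((toAbEt X).obj M).obj t

theorem range_subset_of_hom {E V : EtOver X} (g : V ⟶ E) :
    Set.range (Points.ofPt V.obj.hom) ⊆ Set.range (Points.ofPt E.obj.hom) := by
  rintro _ ⟨v, rfl⟩
  exact ⟨g.hom.left.left v, ofPt_map_etOver g v⟩

variable (hX : IsAlgSpace X) (hN : IsLocNoethSp X) {G F : ModEt X} [G.IsFinitePresentation] [F.IsFinitePresentation]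
  (φ : G ⟶ F) {xbar : FieldPt X} (hx : xbar.IsGeometric)

include hX hN hx

theorem exists_chart_kernel_subsingleton
    (hinj : Mono ((stalkEtFunctor AddCommGrpCat.{u + 1} xbar).map ((toAbEt X).map φ))) :
    ∃ (V : EtOver X) (_ : (FieldPt.liftsTo xbar).obj V), IsAffine V.obj.left.left ∧
      Subsingleton ((pm (kernel φ)).obj (op V)) := by
  obtain ⟨E, l, hE⟩ := exists_affine_nbhd hX hx
  have := isFinitePresentation_kernel hX hN φ
  have := finite_sec (kernel φ) E
  refine exists_chart_subsingleton hX hx (isBCEt_of_fp _) l fun s => ?_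
  have hi := (AddCommGrpCat.mono_iff_injective _).1 hinj
  have h1 : germ xbar G l (appE (kernel.ι φ) E s) = 0 := hi (by
    rw [map_zero, map_germ hX hx φ, show appE φ E (appE (kernel.ι φ) E s) = 0 from
      congrArg (fun ψ => appE ψ E s) (kernel.condition φ)]
    exact map_zero _)
  rw [germ_eq_zero_iff hX hx] at h1 ⊢
  obtain ⟨V, g, hg, hv⟩ := h1
  refine ⟨V, g, ?_, hv⟩
  refine mono_app_injective (Rsh := OEt X) (kernel.ι φ) (op V) ?_
  exact ((PresheafOfModules.naturality_apply (kernel.ι φ).val g.op s).trans hg).trans (map_zero _).symm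

theorem exists_chart_cokernel_subsingleton
    (hsurj : Epi ((stalkEtFunctor AddCommGrpCat.{u + 1} xbar).map ((toAbEt X).map φ))) :
    ∃ (V : EtOver X) (_ : (FieldPt.liftsTo xbar).obj V), IsAffine V.obj.left.left ∧
      Subsingleton ((pm (cokernel φ)).obj (op V)) := by
  obtain ⟨E, l, hE⟩ := exists_affine_nbhd hX hx
  have := isFinitePresentation_cokernel hX hN φ
  have := finite_sec (cokernel φ) E
  refine exists_chart_subsingleton hX hx (isBCEt_of_fp _) l fun q => ?_
  obtain ⟨t, rfl⟩ := surjective_of_epi (Rsh := OEt X) (A := etAff X) (cokernel.π φ) (isBCEt_of_fp F)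
    (isBCEt_of_fp (cokernel φ)) (E := E) hE q
  obtain ⟨z, hz⟩ := (AddCommGrpCat.epi_iff_surjective _).1 hsurj (germ xbar F l t)
  obtain ⟨E', l', g, rfl⟩ := exists_germ hX hx G z
  rw [map_germ hX hx φ] at hz
  refine (map_germ hX hx (cokernel.π φ) l t).symm.trans ?_
  rw [← hz, map_germ hX hx (cokernel.π φ),
    show appE (cokernel.π φ) E' (appE φ E' g) = 0 from congrArg (fun ψ => appE ψ E' g) (cokernel.condition φ)]
  exact map_zero _

omit hX hN hx in
theorem app_injective_of_chart {V : EtOver X} [IsAffine V.obj.left.left]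
    (h : Subsingleton ((pm (kernel φ)).obj (op V))) (E : EtOver X)
    (hE : Set.range (Points.ofPt E.obj.hom) ⊆ Set.range (Points.ofPt V.obj.hom)) :
    Function.Injective (appE φ E) := by
  have hK : IsBCEt (kernel φ) := IsBCMod.kernel φ (isBCEt_of_fp G) (isBCEt_of_fp F)
  refine LinearMap.ker_eq_bot.1 (eq_bot_iff.2 fun x hx => ?_)
  obtain ⟨k, rfl⟩ := (exact_kernel_app (Rsh := OEt X) φ E x).1 hx
  rw [eq_zero_of_chart hK V h E hE k]
  exact map_zero (appE (kernel.ι φ) E)

omit hX hN hx in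
set_option maxHeartbeats 800000 in
theorem affine_mem_range_of_chart {V : EtOver X} [IsAffine V.obj.left.left]
    (h : Subsingleton ((pm (cokernel φ)).obj (op V))) (E : EtOver X) [hA : IsAffine E.obj.left.left]
    (hE : Set.range (Points.ofPt E.obj.hom) ⊆ Set.range (Points.ofPt V.obj.hom))
    (t : (pm F).obj (op E)) : t ∈ Set.range (appE φ E) := by
  let π := cokernel.π φ
  have hQ : IsBCEt (cokernel φ) := IsBCMod.cokernel φ (isBCEt_of_fp G) (isBCEt_of_fp F)
  have hI : IsBCEt (kernel π) := IsBCMod.kernel π (isBCEt_of_fp F) hQ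
  let j : G ⟶ kernel π := Abelian.factorThruImage φ
  have hj : Function.Surjective (appE j E) :=
    surjective_of_epi (Rsh := OEt X) (A := etAff X) j (isBCEt_of_fp G) hI hA
  obtain ⟨i, rfl⟩ := (exact_kernel_app (Rsh := OEt X) π E t).1 (eq_zero_of_chart hQ V h E hE _)
  obtain ⟨x, rfl⟩ := hj i
  exact ⟨x, (congrArg (fun ψ => appE ψ E x) (kernel.lift_ι π φ (cokernel.condition φ))).symm⟩

omit hN hx in
theorem stalk_epi_of_chart {V : EtOver X} [IsAffine V.obj.left.left]
    (h : Subsingleton ((pm (cokernel φ)).obj (op V))) {p : FieldPt X} (hp : p.IsGeometric)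
    (hpV : Points.mk p ∈ Set.range (Points.ofPt V.obj.hom)) :
    Epi ((stalkEtFunctor AddCommGrpCat.{u + 1} p).map ((toAbEt X).map φ)) := by
  rw [AddCommGrpCat.epi_iff_surjective]
  intro z
  obtain ⟨E, l, t, rfl⟩ := exists_germ hX hp F z
  obtain ⟨E', g, l', hll, hA, hr⟩ := exists_affine_le hp l
    ((isOpen_range_ofPt V).preimage (continuous_ofPt' E))
    (show Points.ofPt E.obj.hom _ ∈ _ by rw [← mk_geometric_of_lift l]; exact hpV)
  obtain ⟨x, hx⟩ := affine_mem_range_of_chart φ h E' (by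
    rintro _ ⟨e, rfl⟩
    rw [← ofPt_map_etOver g]
    exact hr ⟨e, rfl⟩) (((pm F).map g.op).hom t)
  refine ⟨germ p G l' x, ?_⟩
  rw [map_germ hX hp φ, hx]
  exact germ_res hX hp F g l l' hll t

omit hX hN hx in
theorem app_bijective_of_chart {V V' : EtOver X} [IsAffine V.obj.left.left] [IsAffine V'.obj.left.left]
    (hK : Subsingleton ((pm (kernel φ)).obj (op V))) (hQ : Subsingleton ((pm (cokernel φ)).obj (op V')))
    (E : EtOver X)
    (hE : Set.range (Points.ofPt E.obj.hom) ⊆ Set.range (Points.ofPt V.obj.hom) ∩ Set.range (Points.ofPt V'.obj.hom)) :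
    Function.Bijective (appE φ E) := by
  refine ⟨app_injective_of_chart φ hK E (hE.trans Set.inter_subset_left), fun t => ?_⟩
  obtain ⟨R, hR, hfac⟩ := (etAff X).exists_affine_cover E
  have key : ∀ ⦃W : EtOver X⦄ (g : W ⟶ E), R.arrows g → ∃ x, appE φ W x = ((pm F).map g.op).hom t := fun W g hg => by
    obtain ⟨B, a, b, hB, rfl⟩ := hfac g hg
    obtain ⟨x, hx⟩ := affine_mem_range_of_chart φ hQ B (hA := hB)
      (((range_subset_of_hom b).trans hE).trans Set.inter_subset_right) (((pm F).map b.op).hom t)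
    refine ⟨((pm G).map a.op).hom x, ?_⟩
    exact ((PresheafOfModules.naturality_apply φ.val a.op x).trans (congrArg _ hx)).trans (map_comp_sec b a t)
  choose x hx using key
  have hsh : Presieve.IsSheaf (etTop X) ((pm G).presheaf ⋙ CategoryTheory.forget AddCommGrpCat) :=
    BCMod.isSheaf_types (Rc := (OEt X).obj) (P := pm G) G.isSheaf
  let fam : Presieve.FamilyOfElements ((pm G).presheaf ⋙ CategoryTheory.forget AddCommGrpCat) R.arrows :=
    fun W g hg => x g hg
  have hcompat : fam.SieveCompatible := fun W W' g a hg => by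
    refine app_injective_of_chart φ hK W' (((range_subset_of_hom (a ≫ g)).trans hE).trans Set.inter_subset_left) ?_
    refine (hx (a ≫ g) (R.downward_closed hg a)).trans ?_
    refine (map_comp_sec g a t).symm.trans ?_
    refine Eq.trans ?_ (PresheafOfModules.naturality_apply φ.val a.op (x g hg)).symm
    exact congrArg _ (hx g hg).symm
  obtain ⟨s, hs, -⟩ := hsh R hR fam ((Presieve.compatible_iff_sieveCompatible fam).2 hcompat)
  refine ⟨s, sheaf_ext (Rc := (OEt X).obj) (P := pm F) F.isSheaf hR _ _ fun W g hg => ?_⟩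
  exact ((PresheafOfModules.naturality_apply φ.val g.op s).symm.trans (congrArg _ (hs g hg))).trans (hx g hg)

omit hN in
/-- The open subspace cut out by charts through a geometric point. -/
theorem exists_open_of_charts {W : Set (Points X)} (hW : IsOpen W) (hxW : Points.mk xbar ∈ W) :
    ∃ (X' : Space S) (j : X' ⟶ (⟨X, hX⟩ : Space S)), RepWith @IsOpenImmersion j.hom ∧
      Points.mk xbar ∈ Set.range (Points.map j.hom) ∧ Set.range (Points.map j.hom) = W := by
  obtain ⟨X', j, hX', hj, hr⟩ := exists_open_subspace hX hW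
  exact ⟨⟨X', hX'⟩, ObjectProperty.homMk j, hj, hr.symm ▸ hxW, hr⟩

omit hX hN hx in
theorem mk_mem_range {V : EtOver X} (l : (FieldPt.liftsTo xbar).obj V) :
    Points.mk xbar ∈ Set.range (Points.ofPt V.obj.hom) := ⟨_, (mk_geometric_of_lift l).symm⟩

theorem exists_open_mono (hinj : Mono ((stalkEtFunctor AddCommGrpCat.{u + 1} xbar).map ((toAbEt X).map φ))) :
    ∃ (X' : Space S) (j : X' ⟶ (⟨X, hX⟩ : Space S)), RepWith @IsOpenImmersion j.hom ∧
      Points.mk xbar ∈ Set.range (Points.map j.hom) ∧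
        ∀ E : EtOver X, Set.range (Points.ofPt E.obj.hom) ⊆ Set.range (Points.map j.hom) →
          Mono (φ.val.app (op E)) := by
  obtain ⟨V, l, hV, hK⟩ := exists_chart_kernel_subsingleton hX hN φ hx hinj
  obtain ⟨X', j, hj, hxj, hr⟩ := exists_open_of_charts hX hx (isOpen_range_ofPt V) (mk_mem_range l)
  exact ⟨X', j, hj, hxj, fun E hE =>
    (ModuleCat.mono_iff_injective _).2 (app_injective_of_chart φ hK E (hr ▸ hE))⟩

theorem exists_open_epi (hsurj : Epi ((stalkEtFunctor AddCommGrpCat.{u + 1} xbar).map ((toAbEt X).map φ))) :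
    ∃ (X' : Space S) (j : X' ⟶ (⟨X, hX⟩ : Space S)), RepWith @IsOpenImmersion j.hom ∧
      Points.mk xbar ∈ Set.range (Points.map j.hom) ∧
        ∀ ybar : FieldPt X, ybar.IsGeometric → Points.mk ybar ∈ Set.range (Points.map j.hom) →
          Epi ((stalkEtFunctor AddCommGrpCat.{u + 1} ybar).map ((toAbEt X).map φ)) := by
  obtain ⟨V, l, hV, hQ⟩ := exists_chart_cokernel_subsingleton hX hN φ hx hsurj
  obtain ⟨X', j, hj, hxj, hr⟩ := exists_open_of_charts hX hx (isOpen_range_ofPt V) (mk_mem_range l)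
  exact ⟨X', j, hj, hxj, fun y hy hyV => stalk_epi_of_chart hX φ hQ hy (hr ▸ hyV)⟩

theorem exists_open_isIso (hbij : IsIso ((stalkEtFunctor AddCommGrpCat.{u + 1} xbar).map ((toAbEt X).map φ))) :
    ∃ (X' : Space S) (j : X' ⟶ (⟨X, hX⟩ : Space S)), RepWith @IsOpenImmersion j.hom ∧
      Points.mk xbar ∈ Set.range (Points.map j.hom) ∧
        ∀ E : EtOver X, Set.range (Points.ofPt E.obj.hom) ⊆ Set.range (Points.map j.hom) →
          IsIso (φ.val.app (op E)) := by
  obtain ⟨V, l, hV, hK⟩ := exists_chart_kernel_subsingleton hX hN φ hx inferInstance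
  obtain ⟨V', l', hV', hQ⟩ := exists_chart_cokernel_subsingleton hX hN φ hx inferInstance
  obtain ⟨X', j, hj, hxj, hr⟩ := exists_open_of_charts hX hx ((isOpen_range_ofPt V).inter (isOpen_range_ofPt V'))
    ⟨mk_mem_range l, mk_mem_range l'⟩
  exact ⟨X', j, hj, hxj, fun E hE =>
    (ConcreteCategory.isIso_iff_bijective _).2 (app_bijective_of_chart φ hK hQ E (hr ▸ hE))⟩

end Groth.Agent.H13EtMod
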