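import Groth.Agent.H13EtMod.Annihilator
import Groth.Agent.H13EtMod.Push
import Groth.Agent.S9991

/-!
# Coherent modules on closed subspaces; splitting the support of a coherent module
-/

set_option backward.isDefEq.respectTransparency false

universe u

open CategoryTheory CategoryTheory.Limits AlgebraicGeometry Opposite
open AlgSp Groth.Agent.H12AlgSp Groth.Agent.H12AlgSp.BCMod

namespace Groth.Agent.H13EtMod

variable {S : Scheme.{u}}

theorem closed_coherent_essSurj {Z X : Space S} (i : Z ⟶ X) (hi : RepWith @IsClosedImmersion i.hom)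
    (hX : IsLocNoethSp X.obj) (hZN : IsLocNoethSp Z.obj) (I : IdealEt X.obj) (hZ : IsCutOutBy I i.hom) :
    (∀ (G : ModEt Z.obj), G.IsFinitePresentation →
        ((pushModEt hi.1).obj G).IsFinitePresentation ∧
          ∀ (E : EtOver X.obj) (hE : IsAffine E.obj.left.left)
            (s : sectModEt ((pushModEt hi.1).obj G) E), I.ideal E hE ≤ annSect s) ∧
      ∀ (M : ModEt X.obj), M.IsFinitePresentation →
        (∀ (E : EtOver X.obj) (hE : IsAffine E.obj.left.left) (s : sectModEt M E),
            I.ideal E hE ≤ annSect s) →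
          ∃ G : ModEt Z.obj, G.IsFinitePresentation ∧ Nonempty ((pushModEt hi.1).obj G ≅ M) := by
  have hfin : IsFiniteMor i.hom := Groth.Agent.H13AlgSp.isFiniteMor_iff.2
    (repWith_le (fun _ _ k (_ : IsClosedImmersion k) => inferInstanceAs (IsFinite k)) hi)
  have hA := (Groth.Agent.S9991.result i hi I hZ)
  refine ⟨fun G hG => ⟨?_, hA.1 G⟩, fun M hM h => ?_⟩
  · exact isFinitePresentation_push Z.property X.property hi.1 hfin hX G
  · obtain ⟨G, hG, ⟨e⟩⟩ := hA.2 M inferInstance h
    refine ⟨G, ?_, ⟨e⟩⟩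
    have hP := (isQuasicoherent_iff_isBCEt _).1 (isQCoh_push Z.property X.property hi.1 hfin G)
    have hpush : ((pushModEt hi.1).obj G).IsFiniteType :=
      (isFiniteType_iff ((isQuasicoherent_iff_isBCEt _).2 hP)).2 fun E hE => by
        have := finite_sec M E
        exact Module.Finite.of_surjective (appE e.inv E)
          (surjective_of_epi (Rsh := OEt X.obj) (A := etAff X.obj) e.inv (isBCEt_of_fp M) hP hE)
    have hft := (isFiniteType_push_iff Z.property X.property hi.1 hfin G).2 hpush
    exact isFinitePresentation_of_finite Z.property hZN hG fun E hE =>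
      (isFiniteType_iff hG).1 hft E hE

variable {X : Sp S}

/-- A germ vanishes off the zero locus of the annihilator. -/
theorem germ_eq_zero_of_notMem (hX : IsAlgSpace X) {p : FieldPt X} (hp : p.IsGeometric) (M : ModEt X)
    {E : EtOver X} (l : (FieldPt.liftsTo p).obj E) (s : (pm M).obj (op E))
    (h : l.1.left (default : Spec (CommRingCat.of p.K)) ∉ E.obj.left.left.zeroLocus (U := ⊤)
      ((annSect (M := M) s : Ideal Γ(E.obj.left.left, ⊤)) : Set Γ(E.obj.left.left, ⊤))) :
    germ p M l s = 0 := by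
  rw [germ_eq_zero_iff hX hp]
  simp only [Scheme.mem_zeroLocus_iff, not_forall, not_not] at h
  obtain ⟨a, ha, hx⟩ := h
  refine ⟨etOpen E (E.obj.left.left.basicOpen a), etOpenι E _, ?_, ⟨⟨_, hx⟩, rfl⟩⟩
  change ((pm M).map (etOpenι E _).op).hom s = 0
  have h1 := (map_smul_sec (etOpenι E (E.obj.left.left.basicOpen a)) (upR E a) s).symm
  rw [(annEl_upR s a).1 ha, map_zero] at h1
  exact ((isUnit_OEt_map_open E (upR E a)).smul_eq_zero).1 h1

theorem notMem_zeroLocus_of_isZero (hX : IsAlgSpace X) {F : ModEt X} (hF : IsBCEt F) {p : FieldPt X}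
    (hp : p.IsGeometric) (hz : IsZero (stalkEt p ((toAbEt X).obj F))) {V : EtOver X} [IsAffine V.obj.left.left]
    (m : (FieldPt.liftsTo p).obj V) (t : (pm F).obj (op V)) :
    m.1.left (default : Spec (CommRingCat.of p.K)) ∉ V.obj.left.left.zeroLocus (U := ⊤)
      ((annSect (M := F) t : Ideal Γ(V.obj.left.left, ⊤)) : Set Γ(V.obj.left.left, ⊤)) := by
  have := AddCommGrpCat.subsingleton_of_isZero hz
  obtain ⟨V', g', hg', v, hv⟩ := (germ_eq_zero_iff hX hp F m t).1 (Subsingleton.elim _ _)
  obtain ⟨_, ⟨O, hO, rfl⟩, hvO, -⟩ :=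
    V'.obj.left.left.isBasis_affineOpens.exists_subset_of_mem_open (Set.mem_univ v) isOpen_univ
  have : IsAffine (etOpen V' O).obj.left.left := hO
  have e : (etOpenι V' O ≫ g').hom.left.left (⟨v, hvO⟩ : O) =
      m.1.left (default : Spec (CommRingCat.of p.K)) := hv
  rw [← e]
  refine notMem_zeroLocus_annSect hF t (etOpenι V' O ≫ g') ?_ (⟨v, hvO⟩ : O)
  rw [← map_comp_sec g' (etOpenι V' O) t, show ((pm F).map g'.op).hom t = 0 from hg']
  exact map_zero _

set_option maxHeartbeats 1000000 in
theorem exists_support_split (hX : IsAlgSpace X) (hN : IsLocNoethSp X) (F : ModEt X) [F.IsFinitePresentation]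
    (Z Z' : Set (Points X)) (hZ : IsClosed Z) (hZ' : IsClosed Z')
    (hsupp : ∀ x : FieldPt X, x.IsGeometric →
      (Points.mk x ∈ Z ∪ Z' ↔ ¬ IsZero (stalkEt x ((toAbEt X).obj F)))) :
    ∃ (G' : ModEt X) (a : G' ⟶ F), Mono a ∧ G'.IsFinitePresentation ∧
      (cokernel a).IsFinitePresentation ∧
        (∀ x : FieldPt X, x.IsGeometric → Points.mk x ∉ Z' → IsZero (stalkEt x ((toAbEt X).obj G'))) ∧
        (∀ x : FieldPt X, x.IsGeometric → Points.mk x ∉ Z →
          IsZero (stalkEt x ((toAbEt X).obj (cokernel a)))) := by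
  have hF := isBCEt_of_fp F
  have hdef : ∀ W : EtOver X, IsAffine W.obj.left.left → ∃ I, IsDef Z' W I := fun W hW => by
    have hc : IsClosed (chartSet Z' W) := hZ'.preimage (continuous_ofPt' W)
    have := isLocallyNoetherian_chart hX hN W.property
    have : IsNoetherian W.obj.left.left := ⟨⟩
    have hcomp : IsCompact ((⟨(chartSet Z' W)ᶜ, hc.isOpen_compl⟩ : W.obj.left.left.Opens) : Set W.obj.left.left) :=
      TopologicalSpace.NoetherianSpace.isCompact _
    obtain ⟨I, hI, hz⟩ := exists_fg_zeroLocus _ hcomp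
    exact ⟨I, hI, hz.trans (compl_compl _)⟩
  obtain ⟨G', a, ha, hq, hrange, -⟩ := exists_supported hF hdef
  have hG' : G'.IsFinitePresentation := isFinitePresentation_of_mono hX hN a hq
  have hQ : (cokernel a).IsFinitePresentation :=
    isFinitePresentation_of_epi hX hN (cokernel.π a) ((qcoh_closure X).2.1 G' F a hq inferInstance).2
  refine ⟨G', a, ha, hG', hQ, fun x hx hxZ => ?_, fun x hx hxZ => ?_⟩
  all_goals refine AddCommGrpCat.isZero_of_iff_subsingleton.2 ?_
  all_goals refine subsingleton_of_forall_eq 0 fun z => ?_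
  all_goals obtain ⟨E, l, s, rfl⟩ := exists_germ hX hx _ z
  · obtain ⟨V, g, l', hll, hV, -⟩ := exists_affine_le hx l isOpen_univ (Set.mem_univ _)
    rw [← germ_res hX hx G' g l l' hll]
    set t : (pm G').obj (op V) := ((pm G').map g.op).hom s with ht
    show germ x G' l' t = 0
    have hmem : appE a V t ∈ Set.range (a.val.app (op V)).hom := ⟨t, rfl⟩
    rw [hrange V hV] at hmem
    refine germ_eq_zero_of_notMem hX hx G' l' t fun hl => hxZ ?_
    rw [mk_geometric_of_lift l']
    refine hmem ?_
    have hann : annSect (M := F) (appE a V t) = annSect (M := G') t := by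
      ext r
      rw [annEl_upR, annEl_upR, ← map_smul]
      exact ⟨fun h => mono_app_injective (Rsh := OEt X) a (op V) (h.trans (map_zero _).symm),
        fun h => (congrArg (appE a V) h).trans (map_zero _)⟩
    exact hann.symm ▸ hl
  · obtain ⟨V₀, g₀, l₀, hll₀, hV₀, -⟩ := exists_affine_le hx l isOpen_univ (Set.mem_univ _)
    obtain ⟨V, g, l', hll, hV, hr⟩ := exists_affine_le hx l₀
      (W := (chartSet Z V₀)ᶜ) ((hZ.preimage (continuous_ofPt' V₀)).isOpen_compl)
      (fun h => hxZ (by rw [mk_geometric_of_lift l₀]; exact h))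
    rw [← germ_res hX hx _ g₀ l l₀ hll₀, ← germ_res hX hx _ g l₀ l' hll]
    obtain ⟨t, ht⟩ := surjective_of_epi (Rsh := OEt X) (A := etAff X) (cokernel.π a) hF
      (isBCEt_of_fp (cokernel a)) (E := V) hV (((pm (cokernel a)).map g.op).hom (((pm (cokernel a)).map g₀.op).hom s))
    rw [← ht]
    have hmem : t ∈ Set.range (a.val.app (op V)).hom := by
      rw [hrange V hV]
      intro w hw
      by_contra hwZ'
      obtain ⟨p, hp, m, hm⟩ := exists_geometric_lift V w
      have hnot : Points.mk p ∉ Z ∪ Z' := by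
        rw [mk_geometric_of_lift m, hm]
        rintro (h | h)
        · exact hr ⟨w, rfl⟩ ((ofPt_map_etOver g w).symm ▸ h :)
        · exact hwZ' h
      have hz : IsZero (stalkEt p ((toAbEt X).obj F)) := not_not.1 ((hsupp p hp).not.1 hnot)
      exact notMem_zeroLocus_of_isZero hX hF hp hz m t (hm.symm ▸ hw)
    obtain ⟨y, rfl⟩ := hmem
    change germ x _ l' (appE (cokernel.π a) V (appE a V y)) = 0
    rw [show appE (cokernel.π a) V (appE a V y) = 0 from congrArg (fun ψ => appE ψ V y) (cokernel.condition a)]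
    exact map_zero _

end Groth.Agent.H13EtMod
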