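import Groth.Agent.H13EtMod.FiniteSec
import Mathlib.Algebra.Category.ModuleCat.Presheaf
import Mathlib.CategoryTheory.Sites.LocallyBijective

/-!
Modules on a site with an affine terminal object: the module associated to a module of global sections.
-/

set_option backward.isDefEq.respectTransparency false
set_option linter.unusedVariables false
set_option linter.unusedSectionVars false

universe w v₁ u₁

open CategoryTheory CategoryTheory.Limits Opposite
open scoped TensorProduct
open Groth.Agent.H12AlgSp.BCMod Groth.Agent.H13EtMod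

namespace Groth.Agent.H13EtMod.Tilde

section Presheaf

variable {C : Type u₁} [Category.{v₁} C] {Rc : Cᵒᵖ ⥤ CommRingCat.{w}} {T : C} (hT : IsTerminal T)
  (Q : Type w) [AddCommGroup Q] [Module (Rc.obj (op T)) Q]

/-- The sections over an object. -/
abbrev carrier (X : C) : Type w := RingOf Rc (hT.from X) ⊗[Rc.obj (op T)] Q

/-- Functions act on the sections. -/
noncomputable instance moduleCarrier (X : C) : Module (Rc.obj (op X)) (carrier (Rc := Rc) hT Q X) :=
  inferInstanceAs (Module (RingOf Rc (hT.from X)) (RingOf Rc (hT.from X) ⊗[Rc.obj (op T)] Q))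

variable {hT Q}

/-- An elementary section. -/
noncomputable def tmul {X : C} (r : Rc.obj (op X)) (q : Q) : carrier (Rc := Rc) hT Q X :=
  toRing (hT.from X) r ⊗ₜ q

theorem smul_tmul' {X : C} (s r : Rc.obj (op X)) (q : Q) :
    s • tmul (hT := hT) r q = tmul (s * r) q := rfl

theorem induction_on {X : C} {motive : carrier (Rc := Rc) hT Q X → Prop} (t : carrier (Rc := Rc) hT Q X)
    (zero : motive 0) (tmul' : ∀ r q, motive (tmul r q)) (add : ∀ x y, motive x → motive y → motive (x + y)) :
    motive t :=
  TensorProduct.induction_on t zero tmul' add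

/-- Restriction. -/
noncomputable def resC {X Y : C} (f : Y ⟶ X) : carrier (Rc := Rc) hT Q X →+ carrier (Rc := Rc) hT Q Y :=
  ((ρ (Rc := Rc) f (hT.hom_ext _ _ : f ≫ hT.from X = hT.from Y)).toLinearMap.rTensor Q).toAddMonoidHom

theorem resC_tmul {X Y : C} (f : Y ⟶ X) (r : Rc.obj (op X)) (q : Q) :
    resC (hT := hT) f (tmul r q) = tmul ((Rc.map f.op).hom r) q := rfl

theorem resC_smul {X Y : C} (f : Y ⟶ X) (s : Rc.obj (op X)) (t : carrier (Rc := Rc) hT Q X) :
    resC (hT := hT) f (s • t) = (Rc.map f.op).hom s • resC f t := by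
  induction t using induction_on with
  | zero => simp only [smul_zero, map_zero]
  | tmul' a q => rw [smul_tmul', resC_tmul, resC_tmul, smul_tmul', map_mul]
  | add a b ha hb => simp only [smul_add, map_add, ha, hb]

variable (Rc hT Q)

/-- The additive presheaf. -/
noncomputable def addP : Cᵒᵖ ⥤ AddCommGrpCat.{w} where
  obj X := AddCommGrpCat.of (carrier (Rc := Rc) hT Q X.unop)
  map f := AddCommGrpCat.ofHom (resC f.unop)
  map_id X := by
    refine AddCommGrpCat.hom_ext (AddMonoidHom.ext fun t => ?_)
    change resC (𝟙 X.unop) t = t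
    induction t using induction_on with
    | zero => exact map_zero _
    | tmul' r q => rw [resC_tmul, op_id, Rc.map_id]; rfl
    | add x y hx hy => rw [map_add, hx, hy]
  map_comp f g := by
    refine AddCommGrpCat.hom_ext (AddMonoidHom.ext fun t => ?_)
    change resC (g.unop ≫ f.unop) t = resC g.unop (resC f.unop t)
    induction t using induction_on with
    | zero => simp only [map_zero]
    | tmul' r q => rw [resC_tmul, resC_tmul, resC_tmul, map_comp_ring]
    | add x y hx hy => rw [map_add, hx, hy, map_add, map_add]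

/-- The presheaf of modules associated to `Q`. -/
noncomputable def tilde : PM Rc :=
  letI : ∀ X, Module ((Rc ⋙ forget₂ CommRingCat RingCat).obj X) ((addP Rc hT Q).obj X) :=
    fun X => inferInstanceAs (Module (Rc.obj (op X.unop)) (carrier (Rc := Rc) hT Q X.unop))
  PresheafOfModules.ofPresheaf (R := Rc ⋙ forget₂ CommRingCat RingCat) (addP Rc hT Q) fun X Y f r x => resC_smul f.unop r x

variable {Rc hT Q}

/-- The sections of the presheaf commute with base change. -/
theorem isBC_tilde {Z E : C} (g : Z ⟶ E) : IsBC (tilde Rc hT Q) g := by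
  classical
  let P := tilde Rc hT Q
  let inv : carrier (Rc := Rc) hT Q Z →+ RingOf Rc g ⊗[Rc.obj (op E)] Sec P (𝟙 E) :=
    TensorProduct.liftAddHom
      { toFun := fun r =>
          { toFun := fun q => toRing g (r : Rc.obj (op Z)) ⊗ₜ toSec P (𝟙 E) (tmul (hT := hT) (1 : Rc.obj (op E)) q)
            map_zero' := by
              rw [show tmul (hT := hT) (1 : Rc.obj (op E)) (0 : Q) = 0 from TensorProduct.tmul_zero _ _]
              exact TensorProduct.tmul_zero _ _
            map_add' := fun q q' => by
              rw [show tmul (hT := hT) (1 : Rc.obj (op E)) (q + q') =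
                tmul (hT := hT) (1 : Rc.obj (op E)) q + tmul 1 q' from TensorProduct.tmul_add _ _ _]
              exact TensorProduct.tmul_add _ _ _ }
        map_zero' := by ext q; exact TensorProduct.zero_tmul _ _
        map_add' := fun r r' => by ext q; exact TensorProduct.add_tmul _ _ _ }
      fun a r q => by
        change toRing g ((Rc.map (hT.from Z).op).hom a * (show Rc.obj (op Z) from r)) ⊗ₜ toSec P (𝟙 E) (tmul (1 : Rc.obj (op E)) q) =
          toRing g r ⊗ₜ toSec P (𝟙 E) (tmul (1 : Rc.obj (op E)) (a • q))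
        let c : Rc.obj (op E) := (Rc.map (hT.from E).op).hom a
        have h1 : toRing g ((Rc.map (hT.from Z).op).hom a * (show Rc.obj (op Z) from r)) = c • toRing g r := by
          rw [← hT.hom_ext (g ≫ hT.from E) (hT.from Z), map_comp_ring, Algebra.smul_def]
          rfl
        rw [h1, TensorProduct.smul_tmul]
        congr 1
        change (Rc.map (𝟙 E).op).hom c • tmul (hT := hT) (1 : Rc.obj (op E)) q = tmul 1 (a • q)
        rw [op_id, Rc.map_id, smul_tmul']
        change (algebraMap (Rc.obj (op T)) (RingOf Rc (hT.from E)) a * 1) ⊗ₜ[Rc.obj (op T)] q = _ ⊗ₜ (a • q)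
        refine Eq.trans ?_ (TensorProduct.smul_tmul a (1 : RingOf Rc (hT.from E)) q)
        exact congrArg (· ⊗ₜ[Rc.obj (op T)] q) (Algebra.smul_def a (1 : RingOf Rc (hT.from E))).symm
  have htm : ∀ (b : RingOf Rc g) (r : Rc.obj (op E)) (q : Q),
      ext P g (b ⊗ₜ toSec P (𝟙 E) (tmul r q)) =
        toSec P g (tmul (hT := hT) ((show Rc.obj (op Z) from b) * (Rc.map g.op).hom r) q) := fun b r q => by
    rw [ext_tmul]
    rfl
  have h1 : Function.LeftInverse (fun t : Sec P g => inv t) (ext P g) := by
    intro t
    induction t with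
    | zero => rw [map_zero]; exact map_zero inv
    | add a b ha hb => rw [map_add]; exact (map_add inv _ _).trans (congrArg₂ (· + ·) ha hb)
    | tmul b x =>
      induction (x : carrier (Rc := Rc) hT Q E) using induction_on with
      | zero =>
        change inv (ext P g (b ⊗ₜ (0 : Sec P (𝟙 E)))) = b ⊗ₜ (0 : Sec P (𝟙 E))
        rw [TensorProduct.tmul_zero, map_zero]; exact map_zero inv
      | tmul' r q =>
        refine (congrArg inv (htm b r q)).trans ?_
        change toRing g _ ⊗ₜ toSec P (𝟙 E) (tmul (1 : Rc.obj (op E)) q) = b ⊗ₜ toSec P (𝟙 E) (tmul r q)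
        have e : toSec P (𝟙 E) (tmul (hT := hT) r q) = r • toSec P (𝟙 E) (tmul (hT := hT) (1 : Rc.obj (op E)) q) := by
          refine Eq.symm ((smul_sec P r _).trans ?_)
          rw [op_id, Rc.map_id]
          exact (smul_tmul' (hT := hT) r (1 : Rc.obj (op E)) q).trans
            (congrArg (fun z => tmul (hT := hT) z q) (mul_one r))
        rw [e, ← TensorProduct.smul_tmul, Algebra.smul_def]
        exact congrArg (fun z => z ⊗ₜ[Rc.obj (op E)] toSec P (𝟙 E) (tmul (hT := hT) (1 : Rc.obj (op E)) q))
          (mul_comm _ _)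
      | add u v hu hv =>
        change inv (ext P g (b ⊗ₜ (toSec P (𝟙 E) u + toSec P (𝟙 E) v))) = b ⊗ₜ (toSec P (𝟙 E) u + toSec P (𝟙 E) v)
        rw [TensorProduct.tmul_add, map_add]
        exact (map_add inv _ _).trans (congrArg₂ (· + ·) hu hv)
  refine ⟨h1.injective, fun x => ⟨inv x, ?_⟩⟩
  induction (x : carrier (Rc := Rc) hT Q Z) using induction_on with
  | zero => exact (congrArg (ext P g) (map_zero inv)).trans (map_zero _)
  | tmul' r q =>
    refine (htm (toRing g r) 1 q).trans ?_
    change tmul (hT := hT) (r * (Rc.map g.op).hom 1) q = tmul r q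
    rw [map_one, mul_one]; try rfl
  | add u v hu hv =>
    refine (congrArg (ext P g) (map_add inv u v)).trans ((map_add _ _ _).trans ?_)
    rw [hu, hv]

/-- The map on sections defined by a map of global sections. -/
noncomputable def lift {N : PM Rc} (φ : Q →ₗ[Rc.obj (op T)] N.obj (op T)) (X : C) :
    carrier (Rc := Rc) hT Q X →+ N.obj (op X) :=
  TensorProduct.liftAddHom
    { toFun := fun r =>
        { toFun := fun q => (show Rc.obj (op X) from r) • (N.map (hT.from X).op).hom (φ q)
          map_zero' := by rw [map_zero]; exact (congrArg _ (map_zero _)).trans (smul_zero _)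
          map_add' := fun q q' => by rw [map_add]; exact (congrArg _ (map_add _ _ _)).trans (smul_add _ _ _) }
      map_zero' := by ext q; exact zero_smul _ _
      map_add' := fun r r' => by ext q; exact add_smul _ _ _ }
    fun a r q => by
      change ((Rc.map (hT.from X).op).hom a * (show Rc.obj (op X) from r)) • (N.map (hT.from X).op).hom (φ q) =
        (show Rc.obj (op X) from r) • (N.map (hT.from X).op).hom (φ (a • q))
      rw [map_smul, mul_comm, mul_smul]
      exact congrArg _ ((N.map (hT.from X).op).hom.map_smul a (φ q)).symm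

/-- The morphism defined by a map of global sections. -/
noncomputable def homMk {N : PM Rc} (φ : Q →ₗ[Rc.obj (op T)] N.obj (op T)) : tilde Rc hT Q ⟶ N :=
  PresheafOfModules.homMk
    { app := fun X => AddCommGrpCat.ofHom (lift φ X.unop)
      naturality := fun X Y f => by
        refine AddCommGrpCat.hom_ext (AddMonoidHom.ext fun t => ?_)
        change lift φ Y.unop (resC f.unop (t : carrier (Rc := Rc) hT Q X.unop)) = (N.map f).hom (lift φ X.unop t)
        induction (t : carrier (Rc := Rc) hT Q X.unop) using induction_on with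
        | zero => simp only [map_zero]
        | tmul' r q =>
          rw [resC_tmul]
          change (Rc.map f).hom r • (N.map (hT.from Y.unop).op).hom (φ q) =
            (N.map f).hom (r • (N.map (hT.from X.unop).op).hom (φ q))
          refine Eq.trans ?_ ((N.map f).hom.map_smul r _).symm
          have e : (hT.from Y.unop).op = (hT.from X.unop).op ≫ f := Quiver.Hom.unop_inj (hT.hom_ext _ _)
          rw [e, N.map_comp]
          rfl
        | add u v hu hv => rw [map_add, map_add, hu, hv, map_add]; exact (map_add _ _ _).symm }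
    fun X r t => by
      change lift φ X.unop ((r : Rc.obj (op X.unop)) • (t : carrier (Rc := Rc) hT Q X.unop)) =
        r • lift φ X.unop (t : carrier (Rc := Rc) hT Q X.unop)
      induction (t : carrier (Rc := Rc) hT Q X.unop) using induction_on with
      | zero => simp only [smul_zero, map_zero]
      | tmul' a q =>
        rw [smul_tmul']
        exact mul_smul (r : Rc.obj (op X.unop)) a _
      | add u v hu hv => simp only [smul_add, map_add, hu, hv]

theorem homMk_tmul {N : PM Rc} (φ : Q →ₗ[Rc.obj (op T)] N.obj (op T)) {X : C} (r : Rc.obj (op X)) (q : Q) :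
    ((homMk (hT := hT) φ).app (op X)).hom (tmul r q) = r • (N.map (hT.from X).op).hom (φ q) := rfl

variable (Rc hT Q)

/-- Global sections of the presheaf. -/
noncomputable def globalEquiv : Q ≃ₗ[Rc.obj (op T)] (tilde Rc hT Q).obj (op T) :=
  have he : hT.from T = 𝟙 T := hT.hom_ext _ _
  have ha : ∀ a : Rc.obj (op T), algebraMap (Rc.obj (op T)) (RingOf Rc (hT.from T)) a =
      toRing (hT.from T) a := fun a => by
    rw [algebraMap_ringOf, he, op_id, Rc.map_id]; rfl
  let e : Rc.obj (op T) ≃ₗ[Rc.obj (op T)] RingOf Rc (hT.from T) :=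
    { toFun := fun a => toRing (hT.from T) a
      invFun := fun a => a
      left_inv := fun _ => rfl
      right_inv := fun _ => rfl
      map_add' := fun _ _ => rfl
      map_smul' := fun a b => by
        rw [RingHom.id_apply, Algebra.smul_def (A := RingOf Rc (hT.from T)), ha]
        rfl }
  let E := (TensorProduct.lid (Rc.obj (op T)) Q).symm.trans (TensorProduct.congr e (LinearEquiv.refl _ Q))
  { toFun := fun q => E q
    invFun := fun t => E.symm t
    left_inv := E.symm_apply_apply
    right_inv := E.apply_symm_apply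
    map_add' := E.map_add
    map_smul' := fun a q => by
      refine ((E.map_smul a q).trans ?_).trans (smul_tmul' (hT := hT) (X := T) a (1 : Rc.obj (op T)) q).symm
      change (a • toRing (hT.from T) (1 : Rc.obj (op T))) ⊗ₜ[Rc.obj (op T)] q = _
      rw [Algebra.smul_def (A := RingOf Rc (hT.from T)), ha]
      rfl }

end Presheaf

section Sheaf

variable {C : Type u₁} [Category.{v₁} C] {J : GrothendieckTopology C}
  {Rsh : Sheaf J CommRingCat.{w}} [J.HasSheafCompose (forget₂ CommRingCat.{w} RingCat.{w})]
  {A : AffSite J Rsh.obj} [HasSheafify J AddCommGrpCat.{w}] [J.WEqualsLocallyBijective AddCommGrpCat.{w}]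
  {T : C} (hT : IsTerminal T) (hA : A.aff T)

/-- Maps of modules which agree on affine objects agree. -/
theorem hom_ext_aff {M N : SheafOfModules.{w} (ringS Rsh)} {a b : M ⟶ N}
    (h : ∀ Y : C, A.aff Y → ∀ z : M.val.obj (op Y), (a.val.app (op Y)).hom z = (b.val.app (op Y)).hom z) :
    a = b := by
  apply SheafOfModules.hom_ext
  refine PresheafOfModules.hom_ext fun Y => ModuleCat.hom_ext (LinearMap.ext fun z => ?_)
  obtain ⟨R, hR, hfac⟩ := A.exists_affine_cover Y.unop
  refine sheaf_ext (P := toPM N) N.isSheaf hR _ _ fun V f hf => ?_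
  obtain ⟨B, p, q, hB, rfl⟩ := hfac f hf
  refine ((PresheafOfModules.naturality_apply a.val (p ≫ q).op z).symm.trans ?_).trans
    (PresheafOfModules.naturality_apply b.val (p ≫ q).op z)
  rw [op_comp, M.val.map_comp]
  refine ((PresheafOfModules.naturality_apply a.val p.op ((M.val.map q.op).hom z)).trans ?_).trans
    (PresheafOfModules.naturality_apply b.val p.op ((M.val.map q.op).hom z)).symm
  exact congrArg _ (h B hB _)

include hT hA in
/-- Maps out of a quasi-coherent module which agree on global sections agree. -/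
theorem hom_ext_global {M N : SheafOfModules.{w} (ringS Rsh)} (hM : IsBCMod A M) {a b : M ⟶ N}
    (h : ∀ z : M.val.obj (op T), (a.val.app (op T)).hom z = (b.val.app (op T)).hom z) : a = b := by
  refine hom_ext_aff (A := A) fun Y hY z => ?_
  obtain ⟨t, ht⟩ := (hM (hT.from Y) hY hA).2 (toSec (toPM M) (hT.from Y) z)
  change (a.val.app (op Y)).hom (ofSec (toPM M) (toSec (toPM M) (hT.from Y) z)) =
    (b.val.app (op Y)).hom (ofSec (toPM M) (toSec (toPM M) (hT.from Y) z))
  rw [← ht]
  clear ht
  induction t with
  | zero => rw [map_zero]; exact (map_zero _).trans (map_zero _).symm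
  | add p q hp hq =>
    rw [map_add]
    exact ((map_add _ _ _).trans (congrArg₂ (· + ·) hp hq)).trans (map_add _ _ _).symm
  | tmul r x =>
    rw [ext_tmul]
    refine ((a.val.app (op Y)).hom.map_smul _ _).trans (Eq.trans ?_ ((b.val.app (op Y)).hom.map_smul _ _).symm)
    refine congrArg (r • toSec (toPM N) (hT.from Y) ·) ?_
    change (a.val.app (op Y)).hom ((M.val.map (hT.from Y).op).hom (ofSec (toPM M) x)) =
      (b.val.app (op Y)).hom ((M.val.map (hT.from Y).op).hom (ofSec (toPM M) x))
    rw [PresheafOfModules.naturality_apply a.val, PresheafOfModules.naturality_apply b.val, h]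

/-- A map of sheaves of modules which is bijective on affine objects is an isomorphism. -/
theorem isIso_of_bijective {M N : SheafOfModules.{w} (ringS Rsh)} (a : M ⟶ N)
    (h : ∀ Y : C, A.aff Y → Function.Bijective (a.val.app (op Y)).hom) : IsIso a := by
  let a' : (⟨M.val.presheaf, M.isSheaf⟩ : Sheaf J AddCommGrpCat.{w}) ⟶ ⟨N.val.presheaf, N.isSheaf⟩ :=
    ⟨(PresheafOfModules.toPresheaf _).map a.val⟩
  have hi : Sheaf.IsLocallyInjective a' := ⟨fun {X} x y e => by
    obtain ⟨R, hR, hfac⟩ := A.exists_affine_cover X.unop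
    refine J.superset_covering (fun V f hf => ?_) hR
    obtain ⟨B, p, q, hB, rfl⟩ := hfac f hf
    change (M.val.map (p ≫ q).op).hom x = (M.val.map (p ≫ q).op).hom y
    rw [op_comp, M.val.map_comp]
    refine congrArg (M.val.map p.op).hom ((h B hB).1 ?_)
    refine (PresheafOfModules.naturality_apply a.val q.op x).trans (Eq.trans ?_
      (PresheafOfModules.naturality_apply a.val q.op y).symm)
    exact congrArg (N.val.map q.op).hom e⟩
  have hs : Sheaf.IsLocallySurjective a' := ⟨fun {X} y => by
    obtain ⟨R, hR, hfac⟩ := A.exists_affine_cover X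
    refine J.superset_covering (fun V f hf => ?_) hR
    obtain ⟨B, p, q, hB, rfl⟩ := hfac f hf
    obtain ⟨z, hz⟩ := (h B hB).2 ((N.val.map q.op).hom y)
    refine ⟨(M.val.map p.op).hom z, ?_⟩
    change (a.val.app (op V)).hom ((M.val.map p.op).hom z) = (N.val.map (p ≫ q).op).hom y
    rw [PresheafOfModules.naturality_apply a.val, hz, op_comp, N.val.map_comp]
    rfl⟩
  have : IsIso a' := (Sheaf.isLocallyBijective_iff_isIso a').1 ⟨hi, hs⟩
  have : IsIso ((SheafOfModules.toSheaf _).map a) := this
  exact isIso_of_reflects_iso a (SheafOfModules.toSheaf _)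

variable (Rsh)

/-- The sheaf associated to a module of global sections. -/
noncomputable def tildeSh (Q : Type w) [AddCommGroup Q] [Module (Rsh.obj.obj (op T)) Q] :
    SheafOfModules.{w} (ringS Rsh) :=
  (shfy Rsh).obj (tilde Rsh.obj hT Q)

/-- The unit. -/
noncomputable def toTildeSh (Q : Type w) [AddCommGroup Q] [Module (Rsh.obj.obj (op T)) Q] :
    tilde Rsh.obj hT Q ⟶ toPM (tildeSh Rsh hT Q) :=
  (shfyAdj Rsh).unit.app _ ≫ (resId _).hom

variable {Rsh}

theorem toTildeSh_bijective (Q : Type w) [AddCommGroup Q] [Module (Rsh.obj.obj (op T)) Q] {E : C} (hE : A.aff E) :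
    Function.Bijective ((toTildeSh Rsh hT Q).app (op E)).hom := by
  have he : ((PresheafOfModules.toPresheaf _).map (toTildeSh Rsh hT Q)) =
      CategoryTheory.toSheafify J (tilde Rsh.obj hT Q).presheaf := by
    rw [toTildeSh, Functor.map_comp, PresheafOfModules.toPresheaf_map_sheafificationAdjunction_unit_app]
    exact Category.comp_id _
  have : Presheaf.IsLocallyInjective J ((PresheafOfModules.toPresheaf _).map (toTildeSh Rsh hT Q)) := by
    rw [he]; exact (J.W_toSheafify _).isLocallyInjective
  have : Presheaf.IsLocallySurjective J ((PresheafOfModules.toPresheaf _).map (toTildeSh Rsh hT Q)) := by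
    rw [he]; exact (J.W_toSheafify _).isLocallySurjective
  exact app_bijective (A := A) _ (fun _ _ g _ _ => isBC_tilde g) (tildeSh Rsh hT Q).isSheaf hE

theorem isBCMod_tildeSh (Q : Type w) [AddCommGroup Q] [Module (Rsh.obj.obj (op T)) Q] :
    IsBCMod A (tildeSh Rsh hT Q) :=
  allBC_of_bijective (φ := toTildeSh Rsh hT Q) (fun _ _ g _ _ => isBC_tilde g)
    fun X hX => toTildeSh_bijective hT Q hX

include hT hA in
/-- Every module over the global functions is the module of global sections of a quasi-coherent module. -/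
theorem exists_sheaf (Q : Type w) [AddCommGroup Q] [Module (Rsh.obj.obj (op T)) Q] :
    ∃ N : SheafOfModules.{w} (ringS Rsh), IsBCMod A N ∧
      Nonempty (Q ≃ₗ[Rsh.obj.obj (op T)] (toPM N).obj (op T)) :=
  ⟨tildeSh Rsh hT Q, isBCMod_tildeSh hT Q, ⟨(globalEquiv Rsh.obj hT Q).trans
    (LinearEquiv.ofBijective ((toTildeSh Rsh hT Q).app (op T)).hom (toTildeSh_bijective hT Q hA))⟩⟩

include hT hA in
/-- A map of global sections of a quasi-coherent module extends to the module. -/
theorem exists_hom {M : SheafOfModules.{w} (ringS Rsh)} (hM : IsBCMod A M) (N : SheafOfModules.{w} (ringS Rsh))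
    (φ : (toPM M).obj (op T) →ₗ[Rsh.obj.obj (op T)] (toPM N).obj (op T)) :
    ∃ a : M ⟶ N, ∀ z : (toPM M).obj (op T), (a.val.app (op T)).hom z = φ z := by
  let Q : Type w := (toPM M).obj (op T)
  let mk : ∀ {N' : SheafOfModules.{w} (ringS Rsh)}, (Q →ₗ[Rsh.obj.obj (op T)] (toPM N').obj (op T)) →
      (tildeSh Rsh hT Q ⟶ N') :=
    fun {N'} ψ => ((shfyAdj Rsh).homEquiv _ _).symm (homMk ψ ≫ (resId (toPM N')).inv)
  have hmk : ∀ {N' : SheafOfModules.{w} (ringS Rsh)} (ψ : Q →ₗ[Rsh.obj.obj (op T)] (toPM N').obj (op T)) (X : C)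
      (t : (tilde Rsh.obj hT Q).obj (op X)),
      ((mk ψ).val.app (op X)).hom (((toTildeSh Rsh hT Q).app (op X)).hom t) =
        ((homMk ψ).app (op X)).hom t := fun ψ X t => by
    have h := ((shfyAdj Rsh).homEquiv_unit _ _ (mk ψ)).symm.trans (Equiv.apply_symm_apply _ _)
    exact congrArg (fun m => (m.app (op X)).hom t) h
  let c := mk (N' := M) LinearMap.id
  have hc : ∀ Y : C, A.aff Y → Function.Bijective (c.val.app (op Y)).hom := fun Y hY => by
    have h2 : Function.Bijective ((homMk (hT := hT) (Q := Q) (N := toPM M) LinearMap.id).app (op Y)).hom := by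
      have hb := (hM (hT.from Y) hY hA).comp
        ((LinearEquiv.lTensor (RingOf Rsh.obj (hT.from Y)) (idEquiv (toPM M) T)).bijective)
      have e : (fun t : carrier (Rc := Rsh.obj) hT Q Y =>
            ((homMk (hT := hT) (Q := Q) (N := toPM M) LinearMap.id).app (op Y)).hom t) =
          fun t => ext (toPM M) (hT.from Y)
            ((LinearEquiv.lTensor (RingOf Rsh.obj (hT.from Y)) (idEquiv (toPM M) T)) t) := by
        funext t
        induction t using induction_on with
        | zero => rw [map_zero, map_zero]; exact map_zero ((homMk (hT := hT) (Q := Q) (N := toPM M) LinearMap.id).app (op Y)).hom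
        | tmul' r q => exact (ext_tmul (toPM M) (hT.from Y) _ _).symm
        | add u v hu hv =>
          rw [map_add ((LinearEquiv.lTensor (RingOf Rsh.obj (hT.from Y)) (idEquiv (toPM M) T))), map_add (ext (toPM M) (hT.from Y))]
          exact (map_add ((homMk (hT := hT) (Q := Q) (N := toPM M) LinearMap.id).app (op Y)).hom u v).trans
            (congrArg₂ (· + ·) hu hv)
      exact (iff_of_eq (congrArg Function.Bijective e)).2 hb
    refine (Function.Bijective.of_comp_iff _ (toTildeSh_bijective (A := A) hT Q hY)).1 ?_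
    rw [show ((c.val.app (op Y)).hom : _ → _) ∘ ((toTildeSh Rsh hT Q).app (op Y)).hom =
      ((homMk (hT := hT) (Q := Q) (N := toPM M) LinearMap.id).app (op Y)).hom from funext (hmk _ Y)]
    exact h2
  have : IsIso c := isIso_of_bijective (A := A) c hc
  refine ⟨inv c ≫ mk φ, fun z => ?_⟩
  let s := ((toTildeSh Rsh hT Q).app (op T)).hom (globalEquiv Rsh.obj hT Q z)
  have he : hT.from T = 𝟙 T := hT.hom_ext _ _
  have h1 : ∀ {N' : SheafOfModules.{w} (ringS Rsh)} (ψ : Q →ₗ[Rsh.obj.obj (op T)] (toPM N').obj (op T)),
      ((mk ψ).val.app (op T)).hom s = ψ z := fun ψ => by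
    rw [hmk]
    refine (homMk_tmul ψ 1 z).trans ?_
    rw [one_smul, he, op_id]
    erw [PresheafOfModules.map_id]
    rfl
  have h3 : ((inv c).val.app (op T)).hom z = s := by
    have h := congrArg (fun m => (SheafOfModules.Hom.val m |>.app (op T)).hom s) (IsIso.hom_inv_id c)
    exact (congrArg ((inv c).val.app (op T)).hom (h1 (N' := M) LinearMap.id).symm).trans h
  exact (congrArg ((mk φ).val.app (op T)).hom h3).trans (h1 φ)

end Sheaf

end Groth.Agent.H13EtMod.Tilde
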